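import Cfsg.Agent.H42.Bs.Geo
import Cfsg.Agent.H358.Bs.Amb

/-!
# S5733, BS35: counting (helper42)
-/

set_option autoImplicit false

namespace Cfsg.Agent.H42.Bs

open Cfsg.Agent.H847.Bs Cfsg.Agent.H358.Bs Module

variable {F V : Type*} [Field F] [AddCommGroup V] [Module F V] {Φ : Frm F V}

/-! ### restriction to an invariant subspace -/

/-- the restriction of an automorphism to an invariant subspace -/
noncomputable def res [FiniteDimensional F V] (D : Submodule F V) (x : stab D) : D ≃ₗ[F] D :=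
  LinearEquiv.ofSubmodules (x : V ≃ₗ[F] V) D D x.2

theorem coe_res [FiniteDimensional F V] (D : Submodule F V) (x : stab D) (d : D) :
    (res D x d : V) = (x : V ≃ₗ[F] V) d := rfl

/-- restriction as a homomorphism -/
noncomputable def resHom [FiniteDimensional F V] (D : Submodule F V) : stab D →* (D ≃ₗ[F] D) where
  toFun := res D
  map_one' := by
    ext d
    rfl
  map_mul' x y := by
    ext d
    rfl

theorem coe_resHom [FiniteDimensional F V] (D : Submodule F V) (x : stab D) (d : D) :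
    (resHom D x d : V) = (x : V ≃ₗ[F] V) d := rfl

theorem res_mem_Iso [FiniteDimensional F V] {D : Submodule F V} {x : stab D} (hx : (x : V ≃ₗ[F] V) ∈ Φ.Iso) :
    resHom D x ∈ (Φ.on D).Iso :=
  ⟨fun _ _ => hx.1 _ _, fun _ => hx.2 _⟩

theorem inv_of_stab {D : Submodule F V} {x : V ≃ₗ[F] V} (hx : x ∈ stab D) : Inv x D := by
  intro v hv
  have h : D.map (x : V →ₗ[F] V) = D := hx
  rw [← h]
  exact ⟨v, hv, rfl⟩

theorem stab_of_inv [FiniteDimensional F V] {D : Submodule F V} {x : V ≃ₗ[F] V} (hx : Inv x D) : x ∈ stab D := by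
  apply Submodule.eq_of_le_of_finrank_eq
  · rintro _ ⟨v, hv, rfl⟩
    exact hx v hv
  · exact finrank_map_eq' x D

theorem irr_res [FiniteDimensional F V] {D : Submodule F V} {x : stab D} :
    Irr (resHom D x) ⊤ ↔ Irr (x : V ≃ₗ[F] V) D := by
  constructor
  · intro h
    refine ⟨inv_of_stab x.2, ?_, ?_⟩
    · rintro rfl
      exact h.ne_bot (Subsingleton.elim _ _)
    · intro Y hY hYx
      have h1 : Inv (resHom D x) (Y.comap D.subtype) := fun v hv => hYx _ hv
      have hmap : (Y.comap D.subtype).map D.subtype = Y := by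
        rw [Submodule.map_comap_subtype]
        exact inf_eq_right.2 hY
      rcases h.min _ le_top h1 with h2 | h2
      · left
        rw [← hmap, h2, Submodule.map_bot]
      · right
        rw [← hmap, h2, Submodule.map_subtype_top]
  · intro h
    refine ⟨fun _ _ => trivial, ?_, ?_⟩
    · intro h1
      apply h.ne_bot
      have h2 := congrArg (Submodule.map D.subtype) h1
      rwa [Submodule.map_subtype_top, Submodule.map_bot] at h2
    · intro Y _ hY
      have h1 : Inv (x : V ≃ₗ[F] V) (Y.map D.subtype) := by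
        rintro _ ⟨v, hv, rfl⟩
        exact ⟨_, hY v hv, rfl⟩
      rcases h.min _ (Submodule.map_subtype_le _ _) h1 with h2 | h2
      · left
        apply Submodule.map_injective_of_injective D.subtype_injective
        rw [h2, Submodule.map_bot]
      · right
        apply Submodule.map_injective_of_injective D.subtype_injective
        rw [h2, Submodule.map_subtype_top]

/-! ### the elements with a large irreducible nondegenerate subspace -/

/-- the elements of `G` with an irreducible nondegenerate subspace of dimension `e` -/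
def XX (Φ : Frm F V) (G : Subgroup (V ≃ₗ[F] V)) (e : ℕ) : Set (V ≃ₗ[F] V) :=
  {x | x ∈ G ∧ ∃ D, Φ.NdOn D ∧ finrank F D = e ∧ Irr x D}

/-- two large irreducible subspaces are equal -/
theorem irr_unique [FiniteDimensional F V] {x : V ≃ₗ[F] V} {D D' : Submodule F V} (h : Irr x D) (h' : Irr x D')
    (hd : finrank F V < 2 * finrank F D) (hd' : finrank F V < 2 * finrank F D') : D = D' := by
  have hinv : Inv x (D ⊓ D') := fun v hv => ⟨h.inv v hv.1, h'.inv v hv.2⟩
  have hne : D ⊓ D' ≠ ⊥ := by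
    intro h0
    have h3 := Submodule.finrank_sup_add_finrank_inf_eq D D'
    rw [h0, finrank_bot] at h3
    have h4 := Submodule.finrank_le (D ⊔ D')
    omega
  have h1 := (h.min _ inf_le_left hinv).resolve_left hne
  have h2 := (h'.min _ inf_le_right hinv).resolve_left hne
  rw [← h1, h2]

theorem irr_conj [FiniteDimensional F V] {x g : V ≃ₗ[F] V} {D : Submodule F V} (h : Irr x D) :
    Irr (g * x * g⁻¹) (D.map (g : V →ₗ[F] V)) := by
  have hg : ∀ v, g⁻¹ (g v) = v := fun v => g.symm_apply_apply v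
  refine ⟨?_, ?_, ?_⟩
  · rintro _ ⟨v, hv, rfl⟩
    refine ⟨x v, h.inv v hv, ?_⟩
    show g (x v) = g (x (g⁻¹ (g v)))
    rw [hg]
  · intro h0
    apply h.ne_bot
    have h1 : Function.Injective (g : V →ₗ[F] V) := g.injective
    apply Submodule.map_injective_of_injective h1
    rw [h0, Submodule.map_bot]
  · intro Y hY hYx
    have h1 : Inv x (Y.comap (g : V →ₗ[F] V)) := by
      intro v hv
      have h2 := hYx (g v) hv
      have h3 : (g * x * g⁻¹) (g v) = g (x v) := by
        show g (x (g⁻¹ (g v))) = _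
        rw [hg]
      rw [h3] at h2
      exact h2
    have h2 : Y.comap (g : V →ₗ[F] V) ≤ D := by
      intro v hv
      obtain ⟨w, hw, hwv⟩ := hY hv
      have : w = v := g.injective hwv
      rwa [← this]
    have h3 : (Y.comap (g : V →ₗ[F] V)).map (g : V →ₗ[F] V) = Y := Submodule.map_comap_eq_of_surjective g.surjective _
    rcases h.min _ h2 h1 with h4 | h4
    · left
      rw [← h3, h4, Submodule.map_bot]
    · right
      rw [← h3, h4]

theorem ndOn_map {g : V ≃ₗ[F] V} (hg : g ∈ Φ.Iso) {D : Submodule F V} (hD : Φ.NdOn D) :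
    Φ.NdOn (D.map (g : V →ₗ[F] V)) := by
  rintro _ ⟨v, hv, rfl⟩ h
  have : v = 0 := hD v hv fun y hy => by
    rw [← hg.1]
    exact h _ ⟨y, hy, rfl⟩
  rw [this, map_zero]

theorem card_fiber {Γ Λ : Type*} [Group Γ] [Group Λ] [Finite Γ] [Finite Λ] (M : Subgroup Γ) (f : M →* Λ)
    (I : Subgroup Λ) (hI : ∀ x, f x ∈ I) (Z : Set Λ) (E : Set Γ) (hE : ∀ x : M, f x ∈ Z → (x : Γ) ∈ E)
    (hZ : ∀ z ∈ Z, ∃ x, f x = z) : Nat.card Z * Nat.card M ≤ Nat.card E * Nat.card I := by
  have h3 : Nat.card M = Nat.card f.ker * Nat.card f.range := by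
    rw [← Subgroup.card_mul_index f.ker, Subgroup.index_ker]
  have h4 : Nat.card f.range ≤ Nat.card I := by
    apply Subgroup.card_le_of_le
    rintro _ ⟨x, rfl⟩
    exact hI x
  have h5 : Nat.card Z * Nat.card f.ker ≤ Nat.card E := by
    have hsec : ∀ z : Z, ∃ x : M, f x = z := fun z => hZ z z.2
    choose sec hsec using hsec
    rw [← Nat.card_prod]
    refine Nat.card_le_card_of_injective (fun p : Z × f.ker => (⟨((sec p.1 * p.2 : M) : Γ), ?_⟩ : E)) ?_
    · apply hE
      rw [map_mul, hsec, (MonoidHom.mem_ker).1 p.2.2, mul_one]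
      exact p.1.2
    · intro p p' h
      have h6 : (sec p.1 * p.2 : M) = sec p'.1 * p'.2 := Subtype.ext (congrArg (fun z : E => (z : Γ)) h)
      have h7 := congrArg f h6
      rw [map_mul, map_mul, hsec, hsec, (MonoidHom.mem_ker).1 p.2.2, (MonoidHom.mem_ker).1 p'.2.2, mul_one,
        mul_one] at h7
      have h8 : p.1 = p'.1 := Subtype.ext h7
      rw [h8] at h6
      exact Prod.ext h8 (Subtype.ext (mul_left_cancel h6))
  rw [h3, ← mul_assoc]
  exact Nat.mul_le_mul h5 h4

/-- the counting inequality for one subspace -/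
theorem card_XX [Finite F] [FiniteDimensional F V] {G : Subgroup (V ≃ₗ[F] V)} (hG : G ≤ Φ.Iso) {D : Submodule F V}
    (hD : Φ.NdOn D) (hd : finrank F V < 2 * finrank F D) {Z : Set (D ≃ₗ[F] D)} (hZ : Z ⊆ (Φ.on D).Bm)
    (hZG : ∀ z ∈ Z, ∃ x : stab D, (x : V ≃ₗ[F] V) ∈ G ∧ resHom D x = z) :
    Nat.card G * Nat.card Z ≤ Nat.card (XX Φ G (finrank F D)) * Nat.card (Φ.on D).Iso := by
  have hfV : Finite V := Module.finite_of_finite F
  have hfGL : Finite (V ≃ₗ[F] V) := DFunLike.finite _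
  have hfGL' : Finite (D ≃ₗ[F] D) := DFunLike.finite _
  have h1 : Nat.card G * Nat.card {x : V ≃ₗ[F] V | x ∈ G ∧ Irr x D} ≤
      Nat.card {y : V ≃ₗ[F] V // ∃ g ∈ G, ∃ x ∈ {x : V ≃ₗ[F] V | x ∈ G ∧ Irr x D}, y = g * x * g⁻¹} *
        Nat.card (G ⊓ stab D : Subgroup (V ≃ₗ[F] V)) := by
    apply card_union_in inf_le_left (fun x hx => hx.1)
    intro g hg x hx hgx
    refine ⟨hg, ?_⟩
    have h2 := irr_conj (g := g) hx.2
    have h3 := irr_unique h2 hgx.2 (by rw [finrank_map_eq']; exact hd) hd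
    exact h3
  have h2 : Nat.card {y : V ≃ₗ[F] V // ∃ g ∈ G, ∃ x ∈ {x : V ≃ₗ[F] V | x ∈ G ∧ Irr x D}, y = g * x * g⁻¹} ≤
      Nat.card (XX Φ G (finrank F D)) := by
    refine Nat.card_le_card_of_injective (fun y => (⟨y.1, ?_⟩ : XX Φ G (finrank F D))) ?_
    · obtain ⟨g, hg, x, hx, he⟩ := y.2
      rw [he]
      refine ⟨G.mul_mem (G.mul_mem hg hx.1) (G.inv_mem hg), D.map (g : V →ₗ[F] V), ndOn_map (hG hg) hD,
        finrank_map_eq' g D, irr_conj hx.2⟩
    · intro y y' h
      exact Subtype.ext (congrArg (fun z : XX Φ G (finrank F D) => (z : V ≃ₗ[F] V)) h)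
  have h3 : Nat.card Z * Nat.card (G ⊓ stab D : Subgroup (V ≃ₗ[F] V)) ≤
      Nat.card {x : V ≃ₗ[F] V | x ∈ G ∧ Irr x D} * Nat.card (Φ.on D).Iso := by
    apply card_fiber (G ⊓ stab D) ((resHom D).comp (Subgroup.inclusion inf_le_right))
    · intro x
      exact res_mem_Iso (x := Subgroup.inclusion inf_le_right x) (hG x.2.1)
    · intro x hx
      exact ⟨x.2.1, irr_res.1 (hZ hx).2⟩
    · intro z hz
      obtain ⟨x, hx, hxz⟩ := hZG z hz
      exact ⟨⟨x, hx, x.2⟩, hxz⟩
  have hM : 0 < Nat.card (G ⊓ stab D : Subgroup (V ≃ₗ[F] V)) := Nat.card_pos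
  refine Nat.le_of_mul_le_mul_left ?_ hM
  calc Nat.card (G ⊓ stab D : Subgroup (V ≃ₗ[F] V)) * (Nat.card G * Nat.card Z)
      = Nat.card G * (Nat.card Z * Nat.card (G ⊓ stab D : Subgroup (V ≃ₗ[F] V))) := by ring
    _ ≤ Nat.card G * (Nat.card {x : V ≃ₗ[F] V | x ∈ G ∧ Irr x D} * Nat.card (Φ.on D).Iso) :=
      Nat.mul_le_mul_left _ h3
    _ = (Nat.card G * Nat.card {x : V ≃ₗ[F] V | x ∈ G ∧ Irr x D}) * Nat.card (Φ.on D).Iso := by ring
    _ ≤ (Nat.card (XX Φ G (finrank F D)) * Nat.card (G ⊓ stab D : Subgroup (V ≃ₗ[F] V))) *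
        Nat.card (Φ.on D).Iso := Nat.mul_le_mul_right _ (h1.trans (Nat.mul_le_mul_right _ h2))
    _ = _ := by ring

end Cfsg.Agent.H42.Bs
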