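import Cfsg.Agent.H42.Bs.Inst

/-!
# S5733, BS35: determinants of isometries of hermitian spaces (helper42)
-/

set_option autoImplicit false

namespace Cfsg.Agent.H42.Bs

open Cfsg.Agent.H847.Bs Cfsg.Agent.H358.Bs Module

variable {F V : Type*} [Field F] [AddCommGroup V] [Module F V] {Φ : Frm F V}

theorem det_glue [FiniteDimensional F V] {D U : Submodule F V} (h : IsCompl D U) (x : D ≃ₗ[F] D) (y : U ≃ₗ[F] U) :
    LinearMap.det ((glue h x y : V ≃ₗ[F] V) : V →ₗ[F] V) =
      LinearMap.det (x : D →ₗ[F] D) * LinearMap.det (y : U →ₗ[F] U) := by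
  have h1 : ((glue h x y : V ≃ₗ[F] V) : V →ₗ[F] V) =
      ((Submodule.prodEquivOfIsCompl D U h : (D × U) ≃ₗ[F] V) : (D × U) →ₗ[F] V) ∘ₗ
        ((x : D →ₗ[F] D).prodMap (y : U →ₗ[F] U)) ∘ₗ ((Submodule.prodEquivOfIsCompl D U h).symm : V →ₗ[F] (D × U)) := by
    ext v
    rfl
  rw [h1, LinearMap.det_conj, LinearMap.det_prodMap]

/-- the field automorphism of a form -/
def Good.ringHom (h : Good Φ) : F →+* F where
  toFun := Φ.s
  map_one' := by
    have h1 := h.s_mul 1 1
    rw [one_mul] at h1
    have h2 : Φ.s 1 ≠ 0 := by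
      intro h0
      have h3 := h.s_s 1
      rw [h0, h.s_zero] at h3
      exact zero_ne_one h3
    exact (mul_eq_left₀ h2).1 h1.symm
  map_mul' := h.s_mul
  map_zero' := h.s_zero
  map_add' := h.s_add

theorem Good.B_sum_left (ι : Type*) (t : Finset ι) (f : ι → V) (w : V) :
    Φ.B (∑ i ∈ t, f i) w = ∑ i ∈ t, Φ.B (f i) w := by
  classical
  induction t using Finset.induction_on with
  | empty => rw [Finset.sum_empty, Finset.sum_empty, B_zero_left]
  | insert a t ha ih => rw [Finset.sum_insert ha, Finset.sum_insert ha, Φ.add_left, ih]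

theorem Good.B_sum_right (ι : Type*) (t : Finset ι) (f : ι → V) (w : V) :
    Φ.B w (∑ i ∈ t, f i) = ∑ i ∈ t, Φ.B w (f i) := by
  classical
  induction t using Finset.induction_on with
  | empty => rw [Finset.sum_empty, Finset.sum_empty, B_zero_right]
  | insert a t ha ih => rw [Finset.sum_insert ha, Finset.sum_insert ha, Φ.add_right, ih]

/-- **The determinant of an isometry has norm one.** -/
theorem det_norm [FiniteDimensional F V] (h : Good Φ) {g : V ≃ₗ[F] V} (hg : g ∈ Φ.Iso) :
    LinearMap.det (g : V →ₗ[F] V) * Φ.s (LinearMap.det (g : V →ₗ[F] V)) = 1 := by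
  classical
  let b := Module.finBasis F V
  let J : Matrix (Fin (finrank F V)) (Fin (finrank F V)) F := Matrix.of fun i j => Φ.B (b i) (b j)
  let A := LinearMap.toMatrix b b (g : V →ₗ[F] V)
  have hgb : ∀ j, g (b j) = ∑ i, A i j • b i := by
    intro j
    have h1 := b.sum_repr (g (b j))
    rw [← h1]
    apply Finset.sum_congr rfl
    intro i _
    have h2 : A i j = b.repr (g (b j)) i := LinearMap.toMatrix_apply b b _ i j
    rw [h2]
  have h1 : A.transpose * J * A.map h.ringHom = J := by
    ext j l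
    have h2 : Φ.B (g (b j)) (g (b l)) = J j l := hg.1 _ _
    rw [← h2, hgb, hgb, Good.B_sum_left, Matrix.mul_assoc, Matrix.mul_apply]
    apply Finset.sum_congr rfl
    intro i _
    rw [Good.B_sum_right, Matrix.transpose_apply, Matrix.mul_apply, Finset.mul_sum]
    apply Finset.sum_congr rfl
    intro k _
    rw [Φ.smul_left, Φ.smul_right]
    show A i j * (Φ.B (b i) (b k) * Φ.s (A k l)) = _
    ring
  have hJ : J.det ≠ 0 := by
    intro h0
    obtain ⟨v, hv, hv0⟩ := Matrix.exists_vecMul_eq_zero_iff.2 h0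
    apply hv
    have h3 : ∑ i, v i • b i = 0 := by
      apply h.nd
      intro y
      rw [← b.sum_repr y, Good.B_sum_right]
      apply Finset.sum_eq_zero
      intro j _
      rw [Φ.smul_right, Good.B_sum_left]
      have h4 := congrFun hv0 j
      have h5 : ∑ i, Φ.B (v i • b i) (b j) = 0 := by
        rw [Pi.zero_apply] at h4
        rw [← h4]
        simp only [Matrix.vecMul, dotProduct, Φ.smul_left]
        rfl
      rw [h5, mul_zero]
    ext i
    have h4 := Fintype.linearIndependent_iff.1 b.linearIndependent v h3 i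
    exact h4
  have h2 := congrArg Matrix.det h1
  rw [Matrix.det_mul, Matrix.det_mul, Matrix.det_transpose] at h2
  have h3 : (A.map h.ringHom).det = Φ.s A.det := by
    have h4 := RingHom.map_det h.ringHom A
    exact h4.symm
  have h4 : A.det = LinearMap.det (g : V →ₗ[F] V) := LinearMap.det_toMatrix b _
  rw [h3, h4] at h2
  apply mul_left_cancel₀ hJ
  linear_combination h2

/-- isometries with given determinant -/
theorem exists_det [Finite F] [FiniteDimensional F V] {r : ℕ} (h : IsHerm r Φ) (h1 : 1 ≤ finrank F V) {μ : F}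
    (hμ : μ * μ ^ r = 1) : ∃ w ∈ Φ.Iso, LinearMap.det (w : V →ₗ[F] V) = μ := by
  have hg := good_of_herm h
  have htop : Φ.NdOn (⊤ : Submodule F V) := fun x _ hx => hg.nd x fun y => hx y trivial
  have hne : (⊤ : Submodule F V) ≠ ⊥ := by
    intro h0
    have h2 := finrank_top F V
    rw [h0, finrank_bot] at h2
    omega
  obtain ⟨a, -, ha⟩ := exists_nonisotropic h htop hne
  have ha0 : a ≠ 0 := by
    rintro rfl
    exact ha (B_zero_left _)
  have hP : Φ.NdOn (Submodule.span F {a}) := by
    intro x hx hx0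
    obtain ⟨c, rfl⟩ := Submodule.mem_span_singleton.1 hx
    have e1 := hx0 a (Submodule.mem_span_singleton_self a)
    rw [Φ.smul_left] at e1
    rw [(mul_eq_zero.1 e1).resolve_right ha, zero_smul]
  have hdec := dec_perp hg hP
  have hμ0 : μ ≠ 0 := by
    rintro rfl
    rw [zero_mul] at hμ
    exact zero_ne_one hμ
  let x : (Submodule.span F {a}) ≃ₗ[F] (Submodule.span F {a}) := LinearEquiv.smulOfNeZero F _ μ hμ0
  have hx : x ∈ (Φ.on (Submodule.span F {a})).Iso := by
    constructor
    · intro v w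
      show Φ.B (μ • (v : V)) (μ • (w : V)) = Φ.B (v : V) w
      rw [Φ.smul_left, Φ.smul_right, h.s, ← mul_assoc, hμ, one_mul]
    · intro v
      show Φ.q _ = Φ.q _
      rw [h.q, h.q]
  obtain ⟨κ, hκ⟩ := hg.quad
  refine ⟨glue hdec.compl x 1, glue_mem_Iso hκ hdec hx (one_mem _), ?_⟩
  rw [det_glue]
  have e1 : LinearMap.det ((1 : perp Φ (Submodule.span F {a}) ≃ₗ[F] perp Φ (Submodule.span F {a})) :
      perp Φ (Submodule.span F {a}) →ₗ[F] perp Φ (Submodule.span F {a})) = 1 := LinearMap.det_id
  have e2 : (x : (Submodule.span F {a}) →ₗ[F] (Submodule.span F {a})) = μ • LinearMap.id := by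
    ext v
    rfl
  rw [e1, e2, LinearMap.det_smul, LinearMap.det_id, finrank_span_singleton ha0, pow_one, mul_one, mul_one]

end Cfsg.Agent.H42.Bs
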