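import Cfsg.Agent.H42.Bs.Quad
import Cfsg.Agent.H42.Bs.Herm

/-!
# S5733, BS35: blocks in `Sp`, `SU`, `Ω`, from the block counts (helper42)
-/

set_option autoImplicit false

namespace Cfsg.Agent.H42.Bs

open Cfsg.Agent.H847.Bs Cfsg.Agent.H358.Bs Module
open Cfsg.Agent.LieClassical.OrthCore (O E Nondeg E_le_O)

universe u v

section

variable {F V : Type*} [Field F] [AddCommGroup V] [Module F V] {Φ : Frm F V}

theorem main' [Finite F] [FiniteDimensional F V] (hΦ : Good Φ) {G H : Subgroup (V ≃ₗ[F] V)} (hG : G ≤ Φ.Iso)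
    (hGr : ∀ r, r.Prime → finrank F V < 2 * r → ¬ r ∣ Nat.card F - 1 → ∀ y ∈ Φ.Iso, y ^ r = 1 → y ∈ G)
    (hH : H ≤ G) (hirr : IrrG H) {D₀ : Submodule F V} (hD₀ : Blk Φ H D₀) (h2 : 2 ≤ finrank F D₀)
    (hn : 64 ≤ finrank F V) (ε : ℕ)
    (hcount : ∀ j, finrank F V < 4 * j → 2 * j + 5 ≤ finrank F V → ∃ D : Submodule F V, Φ.NdOn D ∧
      finrank F D = 2 * j + ε ∧ ∃ Z ⊆ (Φ.on D).Bm,
        (∀ z ∈ Z, ∃ x : stab D, (x : V ≃ₗ[F] V) ∈ G ∧ resHom D x = z) ∧
          Nat.card (Φ.on D).Iso ≤ 2 * finrank F V * Nat.card Z) :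
    Nat.card G ≤ 32 * ndV G H := by
  classical
  set n := finrank F V with hndef
  set S := (Finset.Ioc (n / 4) ((n - 5) / 2)).image fun j => 2 * j + ε with hS
  have hcard : S.card = (n - 5) / 2 - n / 4 := by
    rw [hS, Finset.card_image_of_injective _ (fun a b h => by
      have h' : 2 * a + ε = 2 * b + ε := h
      omega), Nat.card_Ioc]
  have hmem : ∀ e ∈ S, ∃ j, n < 4 * j ∧ 2 * j + 5 ≤ n ∧ e = 2 * j + ε := by
    intro e he
    obtain ⟨j, hj, rfl⟩ := Finset.mem_image.1 he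
    rw [Finset.mem_Ioc] at hj
    exact ⟨j, by omega, by omega, rfl⟩
  have h1 := main hΦ hG hGr hH hirr hD₀ h2 S (fun e he => by
    obtain ⟨j, h3, h4, rfl⟩ := hmem e he
    omega) (fun e he => by
    obtain ⟨j, h3, h4, rfl⟩ := hmem e he
    omega) (C := 2 * n) (fun e he => by
    obtain ⟨j, h3, h4, rfl⟩ := hmem e he
    exact hcount j h3 h4)
  have h3 : n ≤ 8 * S.card := by omega
  have h4 : n * Nat.card G ≤ n * (32 * ndV G H) := by
    calc n * Nat.card G ≤ 8 * S.card * Nat.card G := Nat.mul_le_mul_right _ h3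
      _ = 8 * (S.card * Nat.card G) := by ring
      _ ≤ 8 * (2 * (2 * n) * ndV G H) := Nat.mul_le_mul_left _ h1
      _ = _ := by ring
  exact Nat.le_of_mul_le_mul_left h4 (by omega)

/-- extension by the identity on the perpendicular space, or by any isometry -/
theorem exists_ext [Finite F] [FiniteDimensional F V] (hΦ : Good Φ) {D : Submodule F V} (hD : Φ.NdOn D)
    {z : D ≃ₗ[F] D} (w : perp Φ D ≃ₗ[F] perp Φ D) :
    ∃ x : stab D, (x : V ≃ₗ[F] V) = glue (dec_perp hΦ hD).compl z w ∧ resHom D x = z := by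
  have h1 : glue (dec_perp hΦ hD).compl z w ∈ stab D := by
    apply stab_of_inv
    intro d hd
    rw [glue_left _ _ _ ⟨d, hd⟩]
    exact (z ⟨d, hd⟩).2
  refine ⟨⟨_, h1⟩, rfl, ?_⟩
  ext d
  rw [coe_resHom]
  exact glue_left _ _ _ d

end

/-- the counts of irreducible elements of symplectic groups -/
def SpMinus : Prop :=
  ∃ j₀ : ℕ, ∀ (F : Type u) (V : Type v) [Field F] [Finite F] [AddCommGroup V] [Module F V] [FiniteDimensional F V]
    (Φ : Frm F V) (j : ℕ), IsSp Φ → finrank F V = 2 * j → j₀ ≤ j → Nat.card Φ.Iso ≤ 4 * j * Nat.card Φ.Bm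

/-- the counts of irreducible elements of unitary groups in odd dimension -/
def HermMinus : Prop :=
  ∃ j₀ : ℕ, ∀ (F : Type u) (V : Type v) [Field F] [Finite F] [AddCommGroup V] [Module F V] [FiniteDimensional F V]
    (Φ : Frm F V) (r j : ℕ), IsHerm r Φ → finrank F V = 2 * j + 1 → j₀ ≤ j →
      Nat.card Φ.Iso ≤ 2 * (2 * j + 1) * Nat.card Φ.Bm

/-- the counts of irreducible elements of orthogonal groups of minus type -/
def QuadMinus : Prop :=
  ∃ j₀ : ℕ, ∀ (F : Type u) (V : Type v) [Field F] [Finite F] [AddCommGroup V] [Module F V] [FiniteDimensional F V]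
    (Q : QuadraticForm F V) (j : ℕ), Nondeg Q → ¬ PlusT Q → finrank F V = 2 * j → j₀ ≤ j →
      Nat.card (frmQ Q).Iso ≤ 4 * j * Nat.card (frmQ Q).Bm

/-- **Blocks in symplectic groups.** -/
theorem blocks_sp_of (h : SpMinus.{u, v}) : ∃ c : ℝ, 0 < c ∧ ∃ n₀ : ℕ, ∀ (F : Type u) (V : Type v) [Field F] [Finite F]
    [AddCommGroup V] [Module F V] [FiniteDimensional F V] (Φ : Frm F V), IsSp Φ → n₀ ≤ finrank F V →
      ∀ H ≤ Φ.Iso, IrrG H → ∀ D : Submodule F V, Blk Φ H D → 2 ≤ finrank F D →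
        c * (Nat.card Φ.Iso : ℝ) ≤ ndV Φ.Iso H := by
  obtain ⟨j₀, h⟩ := h
  refine ⟨1 / 32, by norm_num, max 64 (4 * j₀), ?_⟩
  intro F V _ _ _ _ _ Φ hΦ hn H hH hirr D hD h2
  have hg := good_of_sp hΦ
  have hn1 : 64 ≤ finrank F V := le_trans (le_max_left _ _) hn
  have hn2 : 4 * j₀ ≤ finrank F V := le_trans (le_max_right _ _) hn
  have key := main' hg le_rfl (fun r _ _ _ y hy _ => hy) hH hirr hD h2 hn1 0 (by
    intro j hj1 hj2
    obtain ⟨E, hE, hd⟩ := exists_sp hΦ j (by omega)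
    refine ⟨E, hE, by rw [hd, add_zero], (Φ.on E).Bm, subset_rfl, ?_, ?_⟩
    · intro z hz
      obtain ⟨x, hx, hxz⟩ := exists_ext hg hE (z := z) 1
      obtain ⟨κ, hκ⟩ := hg.quad
      exact ⟨x, by rw [hx]; exact glue_mem_Iso hκ (dec_perp hg hE) hz.1 (one_mem _), hxz⟩
    · refine (h F E (Φ.on E) j (isSp_on hΦ hE) hd (by omega)).trans ?_
      apply Nat.mul_le_mul_right
      omega)
  have h3 : (Nat.card Φ.Iso : ℝ) ≤ 32 * ndV Φ.Iso H := by exact_mod_cast key
  linarith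

/-- **Blocks in special unitary groups.** -/
theorem blocks_su_of (h : HermMinus.{u, v}) : ∃ c : ℝ, 0 < c ∧ ∃ n₀ : ℕ, ∀ (F : Type u) (V : Type v) [Field F] [Finite F]
    [AddCommGroup V] [Module F V] [FiniteDimensional F V] (r : ℕ) (Φ : Frm F V), IsHerm r Φ → n₀ ≤ finrank F V →
      ∀ H ≤ Φ.Iso ⊓ slV F V, IrrG H → ∀ D : Submodule F V, Blk Φ H D → 2 ≤ finrank F D →
        c * (Nat.card ↥(Φ.Iso ⊓ slV F V) : ℝ) ≤ ndV (Φ.Iso ⊓ slV F V) H := by
  obtain ⟨j₀, h⟩ := h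
  refine ⟨1 / 32, by norm_num, max 64 (4 * j₀), ?_⟩
  intro F V _ _ _ _ _ r Φ hΦ hn H hH hirr D hD h2
  have hg := good_of_herm hΦ
  have hn1 : 64 ≤ finrank F V := le_trans (le_max_left _ _) hn
  have hn2 : 4 * j₀ ≤ finrank F V := le_trans (le_max_right _ _) hn
  have key := main' hg (G := Φ.Iso ⊓ slV F V) inf_le_left (by
    intro p hp _ hpF y hy hyp
    refine ⟨hy, ?_⟩
    show LinearMap.det (y : V →ₗ[F] V) = 1
    have h3 : LinearMap.det (y : V →ₗ[F] V) ^ p = 1 := by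
      have h4 : ∀ n : ℕ, LinearMap.det ((y ^ n : V ≃ₗ[F] V) : V →ₗ[F] V) = LinearMap.det (y : V →ₗ[F] V) ^ n := by
        intro n
        induction n with
        | zero =>
          rw [pow_zero, pow_zero]
          exact LinearMap.det_id (M := V) (A := F)
        | succ n ih =>
          rw [pow_succ, pow_succ, ← ih]
          exact LinearMap.det_comp ((y ^ n : V ≃ₗ[F] V) : V →ₗ[F] V) (y : V →ₗ[F] V)
      rw [← h4, hyp]
      exact LinearMap.det_id (M := V) (A := F)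
    by_contra hne
    apply hpF
    have h5 : orderOf (LinearMap.det (y : V →ₗ[F] V)) = p := by
      have : Fact p.Prime := ⟨hp⟩
      exact orderOf_eq_prime h3 hne
    rw [← h5]
    have h6 : LinearMap.det (y : V →ₗ[F] V) ≠ 0 := by
      intro h0
      rw [h0, zero_pow hp.ne_zero] at h3
      exact zero_ne_one h3
    have := Fintype.ofFinite F
    rw [Nat.card_eq_fintype_card]
    exact orderOf_dvd_of_pow_eq_one (FiniteField.pow_card_sub_one_eq_one _ h6)) hH hirr hD h2 hn1 1 (by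
    intro j hj1 hj2
    obtain ⟨E, hE, hd⟩ := exists_herm hΦ (2 * j + 1) (by omega)
    refine ⟨E, hE, hd, (Φ.on E).Bm, subset_rfl, ?_, ?_⟩
    · intro z hz
      have hEp := ndOn_perp hg hE
      have h3 := finrank_perp hg hE
      have h4 := det_norm (hg.on hE) hz.1
      set μ := LinearMap.det (z : E →ₗ[F] E) with hμ
      have h4' : μ * μ ^ r = 1 := by
        have h5 : (Φ.on E).s μ = μ ^ r := hΦ.s μ
        rw [h5] at h4
        exact h4
      have hμ0 : μ ≠ 0 := by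
        intro h0
        rw [h0, zero_mul] at h4'
        exact zero_ne_one h4'
      obtain ⟨w, hw, hwd⟩ := exists_det (isHerm_on hΦ hEp) (by omega) (μ := μ⁻¹) (by
        rw [inv_pow, ← mul_inv, h4', inv_one])
      obtain ⟨x, hx, hxz⟩ := exists_ext hg hE (z := z) w
      obtain ⟨κ, hκ⟩ := hg.quad
      refine ⟨x, ⟨?_, ?_⟩, hxz⟩
      · rw [hx]
        exact glue_mem_Iso hκ (dec_perp hg hE) hz.1 hw
      · show LinearMap.det ((x : V ≃ₗ[F] V) : V →ₗ[F] V) = 1
        rw [hx, det_glue, hwd]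
        exact mul_inv_cancel₀ hμ0
    · refine (h F E (Φ.on E) r j (isHerm_on hΦ hE) hd (by omega)).trans ?_
      apply Nat.mul_le_mul_right
      omega)
  have h3 : (Nat.card ↥(Φ.Iso ⊓ slV F V) : ℝ) ≤ 32 * ndV (Φ.Iso ⊓ slV F V) H := by exact_mod_cast key
  linarith

/-- **Blocks in orthogonal groups.** -/
theorem blocks_omega_of (h : QuadMinus.{u, v}) : ∃ c : ℝ, 0 < c ∧ ∃ n₀ : ℕ, ∀ (F : Type u) (V : Type v) [Field F]
    [Finite F] [AddCommGroup V] [Module F V] [FiniteDimensional F V] (Q : QuadraticForm F V), Nondeg Q →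
      n₀ ≤ finrank F V → ∀ H ≤ E Q, IrrG H → ∀ D : Submodule F V, Blk (frmQ Q) H D → 2 ≤ finrank F D →
        c * (Nat.card (E Q) : ℝ) ≤ ndV (E Q) H := by
  obtain ⟨j₀, h⟩ := h
  refine ⟨1 / 32, by norm_num, max 64 (4 * j₀), ?_⟩
  intro F V _ _ _ _ _ Q hQ hn H hH hirr D hD h2
  have hg := good_of_quad hQ
  have hn1 : 64 ≤ finrank F V := le_trans (le_max_left _ _) hn
  have hn2 : 4 * j₀ ≤ finrank F V := le_trans (le_max_right _ _) hn
  have hG := Cfsg.Agent.LieClassical.OrthFinite.good_of_finite hQ (by omega)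
  have key := main' hg (G := E Q) (by rw [Iso_frmQ]; exact E_le_O) (by
    intro p hp hp2 _ y hy hyp
    rw [Iso_frmQ] at hy
    refine mem_E_of_odd hG hy ?_ hyp
    rcases hp.eq_two_or_odd' with rfl | h3
    · omega
    · exact h3) hH hirr hD h2 hn1 0 (by
    intro j hj1 hj2
    obtain ⟨E', hE, hd, hN⟩ := exists_minus hQ j (by omega) (by omega)
    refine ⟨E', hE, by rw [hd, add_zero], ((frmQ Q).on E').Bm, subset_rfl, ?_, ?_⟩
    · intro z hz
      have hEp := ndOn_perp hg hE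
      have h3 := finrank_perp hg hE
      obtain ⟨a, ha, b, hb, hab⟩ := exists_hyp_in hEp (by omega)
      obtain ⟨x, hx, hxz⟩ := exists_ext hg hE (z := z) 1
      obtain ⟨κ, hκ⟩ := hg.quad
      have hxO : (x : V ≃ₗ[F] V) ∈ O Q := by
        rw [hx, ← Iso_frmQ]
        exact glue_mem_Iso hκ (dec_perp hg hE) hz.1 (one_mem _)
      obtain ⟨w, hw, hwD, hwx⟩ := exists_mul_mem_E hG hab ha hb hxO
      have h4 : w * x ∈ stab E' := by
        apply stab_of_inv
        intro d hd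
        have h5 := inv_of_stab x.2 d hd
        show w ((x : V ≃ₗ[F] V) d) ∈ E'
        rw [hwD _ h5]
        exact h5
      refine ⟨⟨w * x, h4⟩, hwx, ?_⟩
      rw [← hxz]
      ext d
      rw [coe_resHom, coe_resHom]
      show w ((x : V ≃ₗ[F] V) d) = (x : V ≃ₗ[F] V) d
      exact hwD _ (inv_of_stab x.2 d d.2)
    · rw [frmQ_on]
      refine (h F E' (Q.comp E'.subtype) j (nondeg_comp hE) (not_plusT hd hN) hd (by omega)).trans ?_
      apply Nat.mul_le_mul_right
      omega)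
  have h3 : (Nat.card (E Q) : ℝ) ≤ 32 * ndV (E Q) H := by exact_mod_cast key
  linarith

end Cfsg.Agent.H42.Bs
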