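import Cfsg.Agent.H42.Bs.Torus

/-!
# S5733, BS35: the block argument (helper42)
-/

set_option autoImplicit false

namespace Cfsg.Agent.H42.Bs

open Cfsg.Agent.H847.Bs Module

variable {F V : Type*} [Field F] [AddCommGroup V] [Module F V] {Φ : Frm F V}

theorem map_mul_sub (g h : V ≃ₗ[F] V) (D : Submodule F V) :
    D.map ((g * h : V ≃ₗ[F] V) : V →ₗ[F] V) = (D.map (h : V →ₗ[F] V)).map (g : V →ₗ[F] V) :=
  Submodule.map_comp _ _ _

theorem finrank_map_eq' (g : V ≃ₗ[F] V) (D : Submodule F V) :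
    finrank F (D.map (g : V →ₗ[F] V)) = finrank F D :=
  LinearEquiv.finrank_map_eq g D

theorem map_one_sub (D : Submodule F V) : D.map ((1 : V ≃ₗ[F] V) : V →ₗ[F] V) = D := Submodule.map_id D

/-- the stabiliser of a subspace -/
def stab (D : Submodule F V) : Subgroup (V ≃ₗ[F] V) where
  carrier := {g | D.map (g : V →ₗ[F] V) = D}
  mul_mem' := by
    intro g h hg hh
    show D.map _ = D
    rw [map_mul_sub, hh, hg]
  one_mem' := map_one_sub D
  inv_mem' := by
    intro g hg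
    have h1 := map_mul_sub g⁻¹ g D
    rw [inv_mul_cancel, map_one_sub, show D.map (g : V →ₗ[F] V) = D from hg] at h1
    exact h1.symm

theorem mem_stab {D : Submodule F V} {g : V ≃ₗ[F] V} : g ∈ stab D ↔ D.map (g : V →ₗ[F] V) = D := Iff.rfl

/-- an element of prime order whose proper power stabilises `D` stabilises `D` -/
theorem mem_of_pow_mem {G : Type*} [Group G] {S : Subgroup G} {y : G} {r : ℕ} (hr : r.Prime) (hy : y ^ r = 1) {m : ℕ}
    (hm0 : 0 < m) (hm : m < r) (h : y ^ m ∈ S) : y ∈ S := by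
  have hc : Nat.Coprime m r := by
    rw [Nat.coprime_comm, Nat.Prime.coprime_iff_not_dvd hr]
    intro hd
    exact absurd (Nat.le_of_dvd hm0 hd) (by omega)
  obtain ⟨a, ha⟩ := Nat.exists_mul_mod_eq_one_of_coprime hc hr.one_lt
  have h1 : y ^ (m * a) = y := by
    rw [← Nat.mod_add_div (m * a) r, ha.2, pow_add, pow_one, pow_mul, hy, one_pow, mul_one]
  rw [← h1, pow_mul]
  exact S.pow_mem h _

/-- an isometry of large prime order in `H` stabilises the blocks of dimension at least two -/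
theorem stab_of_order [FiniteDimensional F V] {H : Subgroup (V ≃ₗ[F] V)} (hH : H ≤ Φ.Iso)
    {D : Submodule F V} (hD : Blk Φ H D) (h2 : 2 ≤ finrank F D) {y : V ≃ₗ[F] V} (hy : y ∈ H) {r : ℕ} (hr : r.Prime)
    (hyr : y ^ r = 1) (hrV : finrank F V < 2 * r) : D.map (y : V →ₗ[F] V) = D := by
  classical
  by_contra hne
  have horth : ∀ m, 0 < m → m < r → ∀ v ∈ D, ∀ w ∈ D, Φ.B ((y ^ m) v) w = 0 := by
    intro m hm0 hm v hv w hw
    rcases hD.orth (y ^ m) (H.pow_mem hy m) with h | h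
    · exact absurd (mem_of_pow_mem (S := stab D) hr hyr hm0 hm h) hne
    · exact h _ ⟨v, hv, rfl⟩ w hw
  have hiso : ∀ m v w, Φ.B ((y ^ m) v) ((y ^ m) w) = Φ.B v w := fun m v w => (Φ.Iso.pow_mem (hH hy) m).1 v w
  have horth2 : ∀ i j : ℕ, i < r → j < r → i ≠ j → ∀ v ∈ D, ∀ w ∈ D, Φ.B ((y ^ i) v) ((y ^ j) w) = 0 := by
    have key : ∀ i j : ℕ, j < i → i < r → ∀ v ∈ D, ∀ w ∈ D, Φ.B ((y ^ i) v) ((y ^ j) w) = 0 := by
      intro i j hji hi v hv w hw
      have h1 : (y ^ i) v = (y ^ j) ((y ^ (i - j)) v) := by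
        rw [← LinearEquiv.mul_apply, ← pow_add]
        congr 2
        omega
      rw [h1, hiso]
      exact horth _ (by omega) (by omega) v hv w hw
    intro i j hi hj hij v hv w hw
    rcases Nat.lt_or_gt_of_ne hij with h | h
    · exact Φ.refl _ _ (key j i h hj w hw v hv)
    · exact key i j h hi v hv w hw
  let φ : (Fin r → D) →ₗ[F] V :=
    ∑ j : Fin r, (((y ^ (j : ℕ) : V ≃ₗ[F] V) : V →ₗ[F] V) ∘ₗ D.subtype) ∘ₗ LinearMap.proj j
  have hφ : ∀ f, φ f = ∑ j : Fin r, (y ^ (j : ℕ)) (f j : V) := by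
    intro f
    simp [φ, LinearMap.sum_apply]
  have hsum : ∀ (s : Finset (Fin r)) (f : Fin r → V) (w : V), Φ.B (∑ j ∈ s, f j) w = ∑ j ∈ s, Φ.B (f j) w := by
    intro s f w
    induction s using Finset.induction_on with
    | empty => rw [Finset.sum_empty, Finset.sum_empty, B_zero_left]
    | insert a s ha ih => rw [Finset.sum_insert ha, Finset.sum_insert ha, Φ.add_left, ih]
  have hinj : Function.Injective φ := by
    rw [← LinearMap.ker_eq_bot, Submodule.eq_bot_iff]
    intro f hf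
    rw [LinearMap.mem_ker, hφ] at hf
    ext k
    rw [Pi.zero_apply, Submodule.coe_zero]
    apply hD.nd _ (f k).2
    intro w hw
    have h1 := hsum Finset.univ (fun j => (y ^ (j : ℕ)) (f j : V)) ((y ^ (k : ℕ)) w)
    rw [hf, B_zero_left, Finset.sum_eq_single k] at h1
    · rw [hiso] at h1
      exact h1.symm
    · intro j _ hjk
      exact horth2 _ _ j.2 k.2 (fun h => hjk (Fin.ext h)) _ (f j).2 _ hw
    · intro h
      exact absurd (Finset.mem_univ _) h
  have h3 := LinearMap.finrank_le_finrank_of_injective hinj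
  rw [Module.finrank_pi_fintype, Finset.sum_const, Finset.card_univ, Fintype.card_fin, smul_eq_mul] at h3
  have h4 : r * 2 ≤ r * finrank F D := Nat.mul_le_mul_left _ h2
  omega

theorem two_mul_finrank_le [FiniteDimensional F V] {H : Subgroup (V ≃ₗ[F] V)} (hirr : IrrG H) {D : Submodule F V}
    (hD : Blk Φ H D) (h2 : 2 ≤ finrank F D) : 2 * finrank F D ≤ finrank F V := by
  obtain ⟨h, hh, hne⟩ : ∃ h ∈ H, D.map (h : V →ₗ[F] V) ≠ D := by
    by_contra hcon
    push Not at hcon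
    rcases hirr D (fun h hh v hv => by rw [← hcon h hh]; exact ⟨v, hv, rfl⟩) with h | h
    · rw [h, finrank_bot] at h2
      omega
    · exact hD.ne_top h
  have ho := (hD.orth h hh).resolve_left hne
  have hinf : D.map (h : V →ₗ[F] V) ⊓ D = ⊥ := by
    rw [Submodule.eq_bot_iff]
    rintro v ⟨hv1, hv2⟩
    exact hD.nd v hv2 fun w hw => ho v hv1 w hw
  have h3 := Submodule.finrank_sup_add_finrank_inf_eq (D.map (h : V →ₗ[F] V)) D
  rw [hinf, finrank_bot, finrank_map_eq'] at h3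
  have h4 := Submodule.finrank_le (D.map (h : V →ₗ[F] V) ⊔ D)
  omega

/-- the block argument -/
theorem geo [FiniteDimensional F V] {H : Subgroup (V ≃ₗ[F] V)} (hH : H ≤ Φ.Iso) (hirr : IrrG H) {D : Submodule F V}
    (hD : Blk Φ H D) (h2 : 2 ≤ finrank F D) {D₁ : Submodule F V} {y : V ≃ₗ[F] V} {r : ℕ} (hr : r.Prime)
    (hyr : y ^ r = 1) (hy1 : y ≠ 1) (hym : ∀ v, y v - v ∈ D₁) (hmin : ∀ Y ≤ D₁, Inv y Y → Y = ⊥ ∨ Y = D₁)
    (hdim : finrank F V < 2 * finrank F D₁) (hrV : finrank F V < 2 * r) {g : V ≃ₗ[F] V}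
    (hgy : g⁻¹ * y * g ∈ H) : False := by
  have hstab : ∀ h ∈ H, (D.map ((g * h : V ≃ₗ[F] V) : V →ₗ[F] V)).map (y : V →ₗ[F] V) =
      D.map ((g * h : V ≃ₗ[F] V) : V →ₗ[F] V) := by
    intro h hh
    have h1 : (g * h)⁻¹ * y * (g * h) ∈ H := by
      have e : (g * h)⁻¹ * y * (g * h) = h⁻¹ * (g⁻¹ * y * g) * h := by group
      rw [e]
      exact H.mul_mem (H.mul_mem (H.inv_mem hh) hgy) hh
    have h3 := stab_of_order hH hD h2 h1 hr (by
      have e : (g * h)⁻¹ * y * (g * h) = (g * h)⁻¹ * y * ((g * h)⁻¹)⁻¹ := by rw [inv_inv]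
      rw [e, conj_pow, hyr]; group) hrV
    rw [← map_mul_sub]
    have e : y * (g * h) = (g * h) * ((g * h)⁻¹ * y * (g * h)) := by group
    rw [e, map_mul_sub, h3]
  obtain ⟨h, hh, d, hd, hne⟩ : ∃ h ∈ H, ∃ d ∈ D, y (g (h d)) ≠ g (h d) := by
    by_contra hcon
    push Not at hcon
    let T : Submodule F V :=
      { carrier := {v | ∀ h ∈ H, y (g (h v)) = g (h v)}
        add_mem' := by
          intro v w hv hw h hh
          rw [map_add, map_add, map_add, hv h hh, hw h hh]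
        zero_mem' := by
          intro h _
          rw [map_zero, map_zero, map_zero]
        smul_mem' := by
          intro c v hv h hh
          rw [map_smul, map_smul, map_smul, hv h hh] }
    have hT : ∀ h ∈ H, Inv h T := by
      intro h hh v hv k hk
      have := hv (k * h) (H.mul_mem hk hh)
      exact this
    rcases hirr T hT with h | h
    · have hDT : D ≤ T := fun d hd h hh => hcon h hh d hd
      rw [h, le_bot_iff] at hDT
      rw [hDT, finrank_bot] at h2
      omega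
    · apply hy1
      ext v
      have h3 : g⁻¹ v ∈ T := by rw [h]; trivial
      have h4 := h3 1 H.one_mem
      have h5 : g ((1 : V ≃ₗ[F] V) (g⁻¹ v)) = v := g.apply_symm_apply v
      rw [h5] at h4
      exact h4
  set E := D.map ((g * h : V ≃ₗ[F] V) : V →ₗ[F] V) with hE
  have hyE : ∀ v ∈ E, y v ∈ E := by
    intro v hv
    have h6 := hstab h hh
    rw [← hE] at h6
    have h7 : y v ∈ E.map (y : V →ₗ[F] V) := ⟨v, hv, rfl⟩
    rwa [h6] at h7
  let Z : Submodule F V := E.map ((y : V →ₗ[F] V) - LinearMap.id)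
  have hZ1 : Z ≤ D₁ := by
    rintro _ ⟨v, _, rfl⟩
    exact hym v
  have hZE : Z ≤ E := by
    rintro _ ⟨v, hv, rfl⟩
    exact E.sub_mem (hyE v hv) hv
  have hZy : Inv y Z := by
    rintro _ ⟨v, hv, rfl⟩
    refine ⟨y v, hyE v hv, ?_⟩
    show y (y v) - y v = y (y v - v)
    rw [map_sub]
  rcases hmin Z hZ1 hZy with h3 | h3
  · have h4 : y (g (h d)) - g (h d) ∈ Z := ⟨g (h d), ⟨d, hd, rfl⟩, rfl⟩
    rw [h3, Submodule.mem_bot, sub_eq_zero] at h4
    exact hne h4
  · rw [h3] at hZE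
    have h4 := Submodule.finrank_mono hZE
    rw [hE, finrank_map_eq'] at h4
    have h5 := two_mul_finrank_le hirr hD h2
    omega

end Cfsg.Agent.H42.Bs
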