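import Cfsg.Agent.H847.Bs.Defs2
import Cfsg.Agent.Lib.Zsigmondy

/-!
# S5733, BS35: hermitian-type forms (helper42)
-/

set_option autoImplicit false

namespace Cfsg.Agent.H42.Bs

open Cfsg.Agent.H847.Bs

/-- the forms which occur: alternating, symmetric (with a quadratic form), hermitian -/
structure Good {F V : Type*} [Field F] [AddCommGroup V] [Module F V] (Φ : Frm F V) : Prop where
  nd : Φ.Nd
  s_add : ∀ a b, Φ.s (a + b) = Φ.s a + Φ.s b
  s_mul : ∀ a b, Φ.s (a * b) = Φ.s a * Φ.s b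
  s_s : ∀ a, Φ.s (Φ.s a) = a
  eps : ∃ ε : F, ε * Φ.s ε = 1 ∧ ∀ x y, Φ.B y x = ε * Φ.s (Φ.B x y)
  quad : ∃ κ : F, ∀ x y, Φ.q (x + y) = Φ.q x + Φ.q y + κ * Φ.B x y
  q_smul : ∀ (c : F) x, Φ.q (c • x) = c * c * Φ.q x

variable {F V : Type*} [Field F] [AddCommGroup V] [Module F V] {Φ : Frm F V}

theorem Good.on (h : Good Φ) {D : Submodule F V} (hD : Φ.NdOn D) : Good (Φ.on D) where
  nd x hx := Subtype.ext (hD x x.2 fun y hy => hx ⟨y, hy⟩)
  s_add := h.s_add
  s_mul := h.s_mul
  s_s := h.s_s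
  eps := by
    obtain ⟨ε, h1, h2⟩ := h.eps
    exact ⟨ε, h1, fun x y => h2 x y⟩
  quad := by
    obtain ⟨κ, h1⟩ := h.quad
    exact ⟨κ, fun x y => h1 x y⟩
  q_smul c x := h.q_smul c x

theorem Good.s_zero (h : Good Φ) : Φ.s 0 = 0 := by
  have := h.s_add 0 0
  rw [add_zero] at this
  exact left_eq_add.1 this

/-- the adjoint relation for a form of this kind -/
def Adj (Φ : Frm F V) (b c : V →ₗ[F] V) : Prop := ∀ v w, Φ.B (b v) w = Φ.B v (c w)

theorem B_zero_left (w : V) : Φ.B 0 w = 0 := by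
  have := Φ.add_left 0 0 w
  rw [add_zero] at this
  exact left_eq_add.1 this

theorem B_zero_right (w : V) : Φ.B w 0 = 0 := by
  have := Φ.add_right w 0 0
  rw [add_zero] at this
  exact left_eq_add.1 this

theorem B_neg_left (v w : V) : Φ.B (-v) w = - Φ.B v w := by
  rw [← neg_one_smul F v, Φ.smul_left, neg_one_mul]

theorem B_sub_left (v v' w : V) : Φ.B (v - v') w = Φ.B v w - Φ.B v' w := by
  rw [sub_eq_add_neg, Φ.add_left, B_neg_left, sub_eq_add_neg]

theorem B_neg_right (v w : V) : Φ.B v (-w) = - Φ.B v w := by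
  have h := Φ.add_right v w (-w)
  rw [add_neg_cancel, B_zero_right] at h
  exact (neg_eq_of_add_eq_zero_right h.symm).symm

theorem B_sub_right (v w w' : V) : Φ.B v (w - w') = Φ.B v w - Φ.B v w' := by
  rw [sub_eq_add_neg, Φ.add_right, B_neg_right, sub_eq_add_neg]

theorem Good.nd_right (h : Good Φ) {w : V} (hw : ∀ v, Φ.B v w = 0) : w = 0 :=
  h.nd w fun y => Φ.refl _ _ (hw y)

theorem Good.ext_right (h : Good Φ) {w w' : V} (hw : ∀ v, Φ.B v w = Φ.B v w') : w = w' := by
  rw [← sub_eq_zero]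
  exact h.nd_right fun v => by rw [B_sub_right, hw, sub_self]

theorem Adj.unique (h : Good Φ) {b c c' : V →ₗ[F] V} (h1 : Adj Φ b c) (h2 : Adj Φ b c') : c = c' := by
  ext w
  exact h.ext_right fun v => by rw [← h1, ← h2]

theorem Adj.symm (h : Good Φ) {b c : V →ₗ[F] V} (h1 : Adj Φ b c) : Adj Φ c b := by
  obtain ⟨ε, hε, hs⟩ := h.eps
  intro v w
  rw [hs w (c v), ← h1, hs v (b w), h.s_mul, h.s_s, ← mul_assoc, hε, one_mul]

theorem Adj.mul {b c b' c' : V →ₗ[F] V} (h1 : Adj Φ b b') (h2 : Adj Φ c c') : Adj Φ (b * c) (c' * b') := by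
  intro v w
  rw [Module.End.mul_apply, Module.End.mul_apply, h1, h2]

theorem Adj.one : Adj Φ 1 1 := fun _ _ => rfl

theorem Adj.add {b c b' c' : V →ₗ[F] V} (h1 : Adj Φ b b') (h2 : Adj Φ c c') : Adj Φ (b + c) (b' + c') := by
  intro v w
  rw [LinearMap.add_apply, LinearMap.add_apply, Φ.add_left, Φ.add_right, h1, h2]

theorem Adj.neg {b b' : V →ₗ[F] V} (h1 : Adj Φ b b') : Adj Φ (-b) (-b') := by
  intro v w
  rw [LinearMap.neg_apply, LinearMap.neg_apply, B_neg_left, B_neg_right, h1]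

theorem Adj.pow {b b' : V →ₗ[F] V} (h1 : Adj Φ b b') (n : ℕ) : Adj Φ (b ^ n) (b' ^ n) := by
  induction n with
  | zero => rw [pow_zero, pow_zero]; exact Adj.one
  | succ n ih =>
    rw [pow_succ, pow_succ']
    exact ih.mul h1

/-- functionals are represented by the form -/
theorem Good.exists_repr (h : Good Φ) [Finite F] [FiniteDimensional F V] (f : V →ₗ[F] F) :
    ∃ w, ∀ v, f v = Φ.B v w := by
  have hV : Finite V := Module.finite_of_finite F
  have hD : Finite (V →ₗ[F] F) := Module.finite_of_finite F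
  let j : V → (V →ₗ[F] F) := fun w =>
    { toFun := fun v => Φ.B v w
      map_add' := fun x y => Φ.add_left x y w
      map_smul' := fun c x => Φ.smul_left c x w }
  have hj : Function.Injective j := fun w w' hw => h.ext_right fun v => LinearMap.congr_fun hw v
  have hc : Nat.card (V →ₗ[F] F) ≤ Nat.card V := by
    rw [Module.natCard_eq_pow_finrank (K := F) (V := V), Module.natCard_eq_pow_finrank (K := F) (V := V →ₗ[F] F)]
    rw [show Module.finrank F (V →ₗ[F] F) = Module.finrank F V from Subspace.dual_finrank_eq]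
  have hs : Function.Surjective j := (hj.bijective_of_nat_card_le hc).2
  obtain ⟨w, hw⟩ := hs f
  exact ⟨w, fun v => by rw [← hw]; rfl⟩

theorem Good.exists_adj (h : Good Φ) [Finite F] [FiniteDimensional F V] (b : V →ₗ[F] V) : ∃ c, Adj Φ b c := by
  have h1 : ∀ w, ∃ w', ∀ v, Φ.B (b v) w = Φ.B v w' := by
    intro w
    let f : V →ₗ[F] F :=
      { toFun := fun v => Φ.B (b v) w
        map_add' := fun x y => by rw [map_add, Φ.add_left]
        map_smul' := fun c x => by rw [map_smul, Φ.smul_left]; rfl }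
    obtain ⟨w', hw'⟩ := h.exists_repr f
    exact ⟨w', hw'⟩
  choose c hc using h1
  refine ⟨{ toFun := c, map_add' := ?_, map_smul' := ?_ }, fun v w => hc w v⟩
  · intro x y
    exact h.ext_right fun v => by rw [← hc, Φ.add_right, Φ.add_right, hc, hc]
  · intro a x
    exact h.ext_right fun v => by rw [← hc, Φ.smul_right, RingHom.id_apply, Φ.smul_right, hc]

end Cfsg.Agent.H42.Bs
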