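import Cfsg.Agent.H42.Bs.Main

/-!
# S5733, BS35: symplectic, hermitian and quadratic forms (helper42)
-/

set_option autoImplicit false

namespace Cfsg.Agent.H42.Bs

open Cfsg.Agent.H847.Bs Cfsg.Agent.H358.Bs Module QuadraticMap
open Cfsg.Agent.LieClassical.OrthCore (O E Nondeg)

variable {F V : Type*} [Field F] [AddCommGroup V] [Module F V] {Φ : Frm F V}

theorem good_of_sp (h : IsSp Φ) : Good Φ where
  nd := h.nd
  s_add a b := by rw [h.s, h.s, h.s]
  s_mul a b := by rw [h.s, h.s, h.s]
  s_s a := by rw [h.s, h.s]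
  eps := by
    refine ⟨-1, by rw [h.s]; ring, fun x y => ?_⟩
    have h1 := h.alt (x + y)
    rw [Φ.add_left, Φ.add_right, Φ.add_right, h.alt, h.alt] at h1
    rw [h.s]
    linear_combination h1
  quad := ⟨0, fun x y => by rw [h.q, h.q, h.q]; ring⟩
  q_smul c x := by rw [h.q, h.q]; ring

theorem isSp_on (h : IsSp Φ) {D : Submodule F V} (hD : Φ.NdOn D) : IsSp (Φ.on D) where
  nd := ((good_of_sp h).on hD).nd
  s := h.s
  q x := h.q x
  alt x := h.alt x

/-- the residue characteristic of the field of a hermitian form -/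
theorem herm_add_pow [Finite F] {r : ℕ} (h : Nat.card F = r ^ 2) (a b : F) : (a + b) ^ r = a ^ r + b ^ r := by
  have := Fintype.ofFinite F
  obtain ⟨p, hch⟩ := CharP.exists F
  obtain ⟨f, hp, hcard⟩ := FiniteField.card F p
  rw [← Nat.card_eq_fintype_card, h] at hcard
  have h1 : r ∣ p ^ (f : ℕ) := by
    rw [← hcard]
    exact dvd_pow_self r (by norm_num)
  obtain ⟨k, -, rfl⟩ := (Nat.dvd_prime_pow hp).1 h1
  have : Fact p.Prime := ⟨hp⟩
  exact add_pow_char_pow a b p k

theorem good_of_herm [Finite F] {r : ℕ} (h : IsHerm r Φ) : Good Φ where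
  nd := h.nd
  s_add a b := by rw [h.s, h.s, h.s, herm_add_pow h.card]
  s_mul a b := by rw [h.s, h.s, h.s, mul_pow]
  s_s a := by
    rw [h.s, h.s, ← pow_mul, ← pow_two, ← h.card]
    have := Fintype.ofFinite F
    rw [Nat.card_eq_fintype_card]
    exact FiniteField.pow_card a
  eps := by
    refine ⟨1, by rw [h.s, one_pow, one_mul], fun x y => ?_⟩
    rw [h.s, one_mul, h.symm]
  quad := ⟨0, fun x y => by rw [h.q, h.q, h.q]; ring⟩
  q_smul c x := by rw [h.q, h.q]; ring

theorem isHerm_on [Finite F] {r : ℕ} (h : IsHerm r Φ) {D : Submodule F V} (hD : Φ.NdOn D) : IsHerm r (Φ.on D) where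
  nd := ((good_of_herm h).on hD).nd
  card := h.card
  s := h.s
  q x := h.q x
  symm x y := h.symm x y

theorem good_of_quad {Q : QuadraticForm F V} (h : Nondeg Q) : Good (frmQ Q) where
  nd := h
  s_add _ _ := rfl
  s_mul _ _ := rfl
  s_s _ := rfl
  eps := ⟨1, by show (1 : F) * 1 = 1; rw [one_mul], fun x y => by
    show polar Q y x = 1 * polar Q x y
    rw [one_mul, polar_comm]⟩
  quad := ⟨1, fun x y => by
    show Q (x + y) = Q x + Q y + 1 * polar Q x y
    rw [one_mul]
    exact Cfsg.Agent.LieClassical.OrthCore.Q_add x y⟩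
  q_smul c x := by
    show Q (c • x) = c * c * Q x
    rw [QuadraticMap.map_smul, smul_eq_mul]

theorem frmQ_on (Q : QuadraticForm F V) (D : Submodule F V) : (frmQ Q).on D = frmQ (Q.comp D.subtype) := rfl

theorem nondeg_comp {Q : QuadraticForm F V} {D : Submodule F V} (hD : (frmQ Q).NdOn D) : Nondeg (Q.comp D.subtype) :=
  fun x hx => Subtype.ext (hD x x.2 fun y hy => hx ⟨y, hy⟩)

theorem Iso_frmQ (Q : QuadraticForm F V) : (frmQ Q).Iso = O Q := by
  ext g
  constructor
  · intro h
    exact h.2
  · intro h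
    exact ⟨fun x y => Cfsg.Agent.LieClassical.OrthCore.polar_map h x y, h⟩

/-! ### subspaces -/

theorem ndOn_bot : Φ.NdOn (⊥ : Submodule F V) := fun _ hx _ => (Submodule.mem_bot F).1 hx

theorem ndOn_perp [Finite F] [FiniteDimensional F V] (hΦ : Good Φ) {D : Submodule F V} (hD : Φ.NdOn D) :
    Φ.NdOn (perp Φ D) := by
  intro x hx h
  apply hΦ.nd
  intro y
  obtain ⟨d, u, rfl⟩ := exists_decomp (dec_perp hΦ hD).compl y
  rw [Φ.add_right, hx d d.2, h u u.2, add_zero]

theorem finrank_perp [Finite F] [FiniteDimensional F V] (hΦ : Good Φ) {D : Submodule F V} (hD : Φ.NdOn D) :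
    finrank F D + finrank F (perp Φ D) = finrank F V :=
  Submodule.finrank_add_eq_of_isCompl (dec_perp hΦ hD).compl

/-- adding a nondegenerate subspace of the perpendicular space -/
theorem ndOn_sup [FiniteDimensional F V] {D P : Submodule F V} (hD : Φ.NdOn D) (hP : Φ.NdOn P)
    (h : P ≤ perp Φ D) : Φ.NdOn (D ⊔ P) ∧ finrank F (D ⊔ P : Submodule F V) = finrank F D + finrank F P := by
  constructor
  · intro x hx hx0
    obtain ⟨d, hd, p, hp, rfl⟩ := Submodule.mem_sup.1 hx
    have h1 : d = 0 := by
      apply hD d hd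
      intro y hy
      have h2 := hx0 y (Submodule.mem_sup_left hy)
      rw [Φ.add_left, h hp y hy, add_zero] at h2
      exact h2
    have h3 : p = 0 := by
      apply hP p hp
      intro y hy
      have h2 := hx0 y (Submodule.mem_sup_right hy)
      rw [h1, zero_add] at h2
      exact h2
    rw [h1, h3, add_zero]
  · have h1 := Submodule.finrank_sup_add_finrank_inf_eq D P
    have h2 : D ⊓ P = ⊥ := by
      rw [Submodule.eq_bot_iff]
      rintro v ⟨hv, hv'⟩
      exact hD v hv (h hv')
    rw [h2, finrank_bot, add_zero] at h1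
    exact h1

/-- nondegenerate subspaces of even dimension of a symplectic space -/
theorem exists_sp [Finite F] [FiniteDimensional F V] (h : IsSp Φ) (j : ℕ) (hj : 2 * j ≤ finrank F V) :
    ∃ D, Φ.NdOn D ∧ finrank F D = 2 * j := by
  induction j with
  | zero => exact ⟨⊥, ndOn_bot, by rw [finrank_bot]⟩
  | succ j ih =>
    obtain ⟨D, hD, hd⟩ := ih (by omega)
    have hg := good_of_sp h
    have h1 := finrank_perp hg hD
    have h2 := ndOn_perp hg hD
    have h3 : perp Φ D ≠ ⊥ := by
      intro h0
      rw [h0, finrank_bot] at h1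
      omega
    obtain ⟨v, hv, hv0⟩ := Submodule.exists_mem_ne_zero_of_ne_bot h3
    obtain ⟨w, hw, hvw⟩ : ∃ w ∈ perp Φ D, Φ.B v w ≠ 0 := by
      by_contra hcon
      push Not at hcon
      exact hv0 (h2 v hv hcon)
    have hwv : Φ.B w v ≠ 0 := fun h0 => hvw (Φ.refl _ _ h0)
    have hli : LinearIndependent F ![v, w] := by
      rw [LinearIndependent.pair_iff]
      intro a b hab
      have e1 : Φ.B (a • v + b • w) w = 0 := by rw [hab, B_zero_left]
      have e2 : Φ.B (a • v + b • w) v = 0 := by rw [hab, B_zero_left]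
      rw [Φ.add_left, Φ.smul_left, Φ.smul_left, h.alt, mul_zero, add_zero] at e1
      rw [Φ.add_left, Φ.smul_left, Φ.smul_left, h.alt, mul_zero, zero_add] at e2
      exact ⟨(mul_eq_zero.1 e1).resolve_right hvw, (mul_eq_zero.1 e2).resolve_right hwv⟩
    have hP2 : finrank F (Submodule.span F (Set.range ![v, w])) = 2 := by
      rw [finrank_span_eq_card hli, Fintype.card_fin]
    have hP : Φ.NdOn (Submodule.span F (Set.range ![v, w])) := by
      intro x hx hx0
      have hr : Set.range ![v, w] = {v, w} := by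
        rw [Matrix.range_cons, Matrix.range_cons, Matrix.range_empty, Set.union_empty]
        rfl
      rw [hr] at hx hx0
      obtain ⟨a, b, rfl⟩ := Submodule.mem_span_pair.1 hx
      have e1 := hx0 w (Submodule.subset_span (by simp))
      have e2 := hx0 v (Submodule.subset_span (by simp))
      rw [Φ.add_left, Φ.smul_left, Φ.smul_left, h.alt, mul_zero, add_zero] at e1
      rw [Φ.add_left, Φ.smul_left, Φ.smul_left, h.alt, mul_zero, zero_add] at e2
      rw [(mul_eq_zero.1 e1).resolve_right hvw, (mul_eq_zero.1 e2).resolve_right hwv, zero_smul, zero_smul, add_zero]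
    have hle : Submodule.span F (Set.range ![v, w]) ≤ perp Φ D := by
      rw [Submodule.span_le]
      rintro _ ⟨i, rfl⟩
      fin_cases i
      · exact hv
      · exact hw
    obtain ⟨h4, h5⟩ := ndOn_sup hD hP hle
    exact ⟨_, h4, by rw [h5, hd, hP2]; ring⟩

/-- nonisotropic vectors in nonzero nondegenerate subspaces of hermitian spaces -/
theorem exists_nonisotropic [Finite F] {r : ℕ} (h : IsHerm r Φ) {W : Submodule F V}
    (hW : Φ.NdOn W) (hW0 : W ≠ ⊥) : ∃ v ∈ W, Φ.B v v ≠ 0 := by
  have hg := good_of_herm h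
  by_contra hcon
  push Not at hcon
  obtain ⟨v, hv, hv0⟩ := Submodule.exists_mem_ne_zero_of_ne_bot hW0
  obtain ⟨w, hw, hvw⟩ : ∃ w ∈ W, Φ.B v w ≠ 0 := by
    by_contra hcon
    push Not at hcon
    exact hv0 (hW v hv hcon)
  -- `μ + μ ^ r = 0` for all `μ`
  have h1 : ∀ μ : F, μ + μ ^ r = 0 := by
    intro μ
    set a := μ * (Φ.B v w)⁻¹ with ha
    have e1 := hcon (a • v + w) (W.add_mem (W.smul_mem a hv) hw)
    have e2 := hcon (a • v) (W.smul_mem a hv)
    rw [Φ.add_left, Φ.add_right, Φ.add_right, e2, hcon w hw, h.symm (a • v) w, Φ.smul_left, ha,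
      inv_mul_cancel_right₀ hvw] at e1
    linear_combination e1
  have hr : r ≠ 0 := by
    rintro rfl
    have h2 := h.card
    have h3 : 0 < Nat.card F := Nat.card_pos
    rw [h2] at h3
    simp at h3
  have h5 : Nat.card F ≤ r := by
    have := Fintype.ofFinite F
    have hr1 : r ≠ 1 := by
      rintro rfl
      have h2 := h.card
      have h3 : 1 < Nat.card F := Finite.one_lt_card
      rw [h2] at h3
      simp at h3
    have hdeg : (Polynomial.X ^ r + Polynomial.X : Polynomial F).natDegree = r := by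
      compute_degree!
      · rw [if_neg (Ne.symm hr1)]
        simp
      · omega
    have hne : (Polynomial.X ^ r + Polynomial.X : Polynomial F) ≠ 0 := by
      intro h0
      rw [h0, Polynomial.natDegree_zero] at hdeg
      exact hr hdeg.symm
    have h6 : (Finset.univ : Finset F).card ≤ (Polynomial.X ^ r + Polynomial.X : Polynomial F).natDegree := by
      apply Polynomial.card_le_degree_of_subset_roots
      intro μ _
      rw [Polynomial.mem_roots hne, Polynomial.IsRoot.def]
      simp only [Polynomial.eval_add, Polynomial.eval_pow, Polynomial.eval_X]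
      rw [add_comm]
      exact h1 μ
    rw [hdeg, Finset.card_univ, ← Nat.card_eq_fintype_card] at h6
    exact h6
  have h6 := h.card
  have h7 : 1 < Nat.card F := Finite.one_lt_card
  have h8 : r * r ≤ r * 1 := by rw [mul_one, ← pow_two, ← h6]; exact h5
  have h9 := Nat.le_of_mul_le_mul_left h8 (Nat.pos_of_ne_zero hr)
  have h10 : r = 1 := by omega
  rw [h10] at h6
  omega

/-- nondegenerate subspaces of a hermitian space -/
theorem exists_herm [Finite F] [FiniteDimensional F V] {r : ℕ} (h : IsHerm r Φ) (j : ℕ) (hj : j ≤ finrank F V) :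
    ∃ D, Φ.NdOn D ∧ finrank F D = j := by
  induction j with
  | zero => exact ⟨⊥, ndOn_bot, by rw [finrank_bot]⟩
  | succ j ih =>
    obtain ⟨D, hD, hd⟩ := ih (by omega)
    have hg := good_of_herm h
    have h1 := finrank_perp hg hD
    have h2 := ndOn_perp hg hD
    have h3 : perp Φ D ≠ ⊥ := by
      intro h0
      rw [h0, finrank_bot] at h1
      omega
    obtain ⟨v, hv, hvv⟩ := exists_nonisotropic h h2 h3
    have hv0 : v ≠ 0 := by
      rintro rfl
      exact hvv (B_zero_left _)
    have hP : Φ.NdOn (Submodule.span F {v}) := by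
      intro x hx hx0
      obtain ⟨a, rfl⟩ := Submodule.mem_span_singleton.1 hx
      have e1 := hx0 v (Submodule.mem_span_singleton_self v)
      rw [Φ.smul_left] at e1
      rw [(mul_eq_zero.1 e1).resolve_right hvv, zero_smul]
    have hle : Submodule.span F {v} ≤ perp Φ D := by
      rw [Submodule.span_le]
      rintro _ rfl
      exact hv
    obtain ⟨h4, h5⟩ := ndOn_sup hD hP hle
    exact ⟨_, h4, by rw [h5, hd, finrank_span_singleton hv0]⟩

end Cfsg.Agent.H42.Bs
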