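import Cfsg.Agent.H42.Bs.Count

/-!
# S5733, BS35: the general theorem on groups with blocks (helper42)
-/

set_option autoImplicit false

namespace Cfsg.Agent.H42.Bs

open Cfsg.Agent.H847.Bs Cfsg.Agent.H358.Bs Module

variable {F V : Type*} [Field F] [AddCommGroup V] [Module F V] {Φ : Frm F V}

/-! ### glueing -/

section glue

variable {D U : Submodule F V}

theorem glue_add (h : IsCompl D U) (x : D ≃ₗ[F] D) (y : U ≃ₗ[F] U) (d : D) (u : U) :
    glue h x y ((d : V) + u) = (x d : V) + y u := by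
  have h1 : (Submodule.prodEquivOfIsCompl D U h).symm ((d : V) + u) = (d, u) := by
    rw [LinearEquiv.symm_apply_eq]
    rfl
  show (Submodule.prodEquivOfIsCompl D U h) ((x.prodCongr y) ((Submodule.prodEquivOfIsCompl D U h).symm ((d : V) + u))) = _
  rw [h1]
  rfl

theorem glue_left (h : IsCompl D U) (x : D ≃ₗ[F] D) (y : U ≃ₗ[F] U) (d : D) : glue h x y (d : V) = x d := by
  have := glue_add h x y d 0
  rwa [Submodule.coe_zero, add_zero, map_zero, Submodule.coe_zero, add_zero] at this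

theorem glue_right (h : IsCompl D U) (x : D ≃ₗ[F] D) (y : U ≃ₗ[F] U) (u : U) : glue h x y (u : V) = y u := by
  have := glue_add h x y 0 u
  rwa [Submodule.coe_zero, zero_add, map_zero, Submodule.coe_zero, zero_add] at this

theorem exists_decomp (h : IsCompl D U) (v : V) : ∃ (d : D) (u : U), (d : V) + u = v := by
  obtain ⟨d, hd, u, hu, e⟩ := Submodule.mem_sup.1 (show v ∈ D ⊔ U by rw [h.sup_eq_top]; trivial)
  exact ⟨⟨d, hd⟩, ⟨u, hu⟩, e⟩

theorem ext_compl (h : IsCompl D U) {g k : V ≃ₗ[F] V} (h1 : ∀ d ∈ D, g d = k d) (h2 : ∀ u ∈ U, g u = k u) : g = k := by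
  ext v
  obtain ⟨d, u, rfl⟩ := exists_decomp h v
  rw [map_add, map_add, h1 _ d.2, h2 _ u.2]

theorem glue_mem_Iso {κ : F} (hκ : ∀ x y, Φ.q (x + y) = Φ.q x + Φ.q y + κ * Φ.B x y) (h : Φ.Dec D U) {x : D ≃ₗ[F] D}
    {y : U ≃ₗ[F] U} (hx : x ∈ (Φ.on D).Iso) (hy : y ∈ (Φ.on U).Iso) : glue h.compl x y ∈ Φ.Iso := by
  have h0 : ∀ (d : D) (u : U), Φ.B (d : V) u = 0 := fun d u => h.orth _ d.2 _ u.2
  have h0' : ∀ (d : D) (u : U), Φ.B (u : V) d = 0 := fun d u => Φ.refl _ _ (h0 d u)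
  constructor
  · intro v w
    obtain ⟨d, u, rfl⟩ := exists_decomp h.compl v
    obtain ⟨d', u', rfl⟩ := exists_decomp h.compl w
    have e1 : Φ.B (x d : V) (x d') = Φ.B (d : V) d' := hx.1 d d'
    have e2 : Φ.B (y u : V) (y u') = Φ.B (u : V) u' := hy.1 u u'
    rw [glue_add, glue_add]
    simp only [Φ.add_left, Φ.add_right, h0, h0', e1, e2]
  · intro v
    obtain ⟨d, u, rfl⟩ := exists_decomp h.compl v
    have e1 : Φ.q (x d : V) = Φ.q (d : V) := hx.2 d
    have e2 : Φ.q (y u : V) = Φ.q (u : V) := hy.2 u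
    rw [glue_add]
    simp only [hκ, h0, e1, e2]

end glue

/-! ### the perpendicular space -/

/-- the perpendicular space -/
def perp (Φ : Frm F V) (D : Submodule F V) : Submodule F V where
  carrier := {v | ∀ d ∈ D, Φ.B v d = 0}
  add_mem' := by
    intro v w hv hw d hd
    rw [Φ.add_left, hv d hd, hw d hd, add_zero]
  zero_mem' := fun d _ => B_zero_left d
  smul_mem' := by
    intro c v hv d hd
    rw [Φ.smul_left, hv d hd, mul_zero]

theorem mem_perp {D : Submodule F V} {v : V} : v ∈ perp Φ D ↔ ∀ d ∈ D, Φ.B v d = 0 := Iff.rfl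

theorem dec_perp [Finite F] [FiniteDimensional F V] (hΦ : Good Φ) {D : Submodule F V} (hD : Φ.NdOn D) :
    Φ.Dec D (perp Φ D) := by
  have hg := hΦ.on hD
  refine ⟨⟨?_, ?_⟩, ?_⟩
  · rw [Submodule.disjoint_def]
    intro v hv hvp
    exact hD v hv hvp
  · rw [codisjoint_iff, eq_top_iff]
    intro v _
    let f : D →ₗ[F] F :=
      { toFun := fun d => Φ.B d v
        map_add' := fun x y => Φ.add_left _ _ _
        map_smul' := fun c x => Φ.smul_left _ _ _ }
    obtain ⟨w, hw⟩ := hg.exists_repr f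
    have hw' : ∀ d : D, Φ.B (d : V) v = Φ.B (d : V) w := hw
    rw [Submodule.mem_sup]
    refine ⟨w, w.2, v - w, ?_, by abel⟩
    intro d hd
    apply Φ.refl
    rw [B_sub_right, hw' ⟨d, hd⟩, sub_self]
  · intro d hd u hu
    exact Φ.refl _ _ (hu d hd)

/-- the element of primitive prime order -/
theorem exists_y [Finite F] [FiniteDimensional F V] (hΦ : Good Φ) {x : V ≃ₗ[F] V} (hx : x ∈ Φ.Iso)
    {D : Submodule F V} (hD : Φ.NdOn D) (hi : Irr x D) (h2 : 2 ≤ finrank F D) {p N r : ℕ} (hp : p.Prime)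
    (hcard : Nat.card D = p ^ N) (hr : r.Prime) (hprim : ∀ m, r ∣ p ^ m - 1 ↔ N ∣ m) :
    ∃ y ∈ Φ.Iso, y * x = x * y ∧ y ^ r = 1 ∧ y ≠ 1 ∧ (∀ v, y v - v ∈ D) ∧
      ∀ Y ≤ D, Inv y Y → Y = ⊥ ∨ Y = D := by
  have hs : x ∈ stab D := stab_of_inv hi.inv
  obtain ⟨u, hu, hux, hur, hu1, hui⟩ := exists_torus (hΦ.on hD) (x := resHom D ⟨x, hs⟩) (res_mem_Iso hx) (irr_res.2 hi)
    h2 hp hcard hr hprim
  have hdec := dec_perp hΦ hD
  obtain ⟨κ, hκ⟩ := hΦ.quad
  have hxp : ∀ w ∈ perp Φ D, x w ∈ perp Φ D := by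
    intro w hw d hd
    obtain ⟨d', hd', rfl⟩ : ∃ d' ∈ D, x d' = d := by
      have h3 : D.map (x : V →ₗ[F] V) = D := hs
      rw [← h3] at hd
      exact hd
    rw [hx.1]
    exact hw d' hd'
  have hgl : ∀ (d : V) (hd : d ∈ D), glue hdec.compl u 1 d = u ⟨d, hd⟩ := fun d hd => glue_left hdec.compl u 1 ⟨d, hd⟩
  have hgr : ∀ w ∈ perp Φ D, glue hdec.compl u 1 w = w := fun w hw => glue_right hdec.compl u 1 ⟨w, hw⟩
  have hpow : ∀ n : ℕ, (∀ d : D, ((glue hdec.compl u 1) ^ n) (d : V) = (u ^ n) d) ∧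
      ∀ w ∈ perp Φ D, ((glue hdec.compl u 1) ^ n) w = w := by
    intro n
    induction n with
    | zero => exact ⟨fun _ => rfl, fun _ _ => rfl⟩
    | succ n ih =>
      constructor
      · intro d
        rw [pow_succ', pow_succ', LinearEquiv.mul_apply, LinearEquiv.mul_apply, ih.1]
        exact glue_left _ _ _ _
      · intro w hw
        rw [pow_succ', LinearEquiv.mul_apply, ih.2 w hw]
        exact hgr w hw
  refine ⟨glue hdec.compl u 1, glue_mem_Iso hκ hdec hu (one_mem _), ?_, ?_, ?_, ?_, ?_⟩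
  · apply ext_compl hdec.compl
    · intro d hd
      have h3 := LinearEquiv.congr_fun hux ⟨d, hd⟩
      have h4 := congrArg (fun z : D => (z : V)) h3
      show glue hdec.compl u 1 (x d) = x (glue hdec.compl u 1 d)
      rw [hgl d hd, hgl (x d) (hi.inv d hd)]
      exact h4
    · intro w hw
      show glue hdec.compl u 1 (x w) = x (glue hdec.compl u 1 w)
      rw [hgr w hw, hgr (x w) (hxp w hw)]
  · apply ext_compl hdec.compl
    · intro d hd
      rw [(hpow r).1 ⟨d, hd⟩, hur]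
      rfl
    · intro w hw
      rw [(hpow r).2 w hw]
      rfl
  · intro h
    apply hu1
    ext d
    rw [← glue_left hdec.compl u 1 d, h]
    rfl
  · intro v
    obtain ⟨d, w, rfl⟩ := exists_decomp hdec.compl v
    rw [glue_add]
    have e : (u d : V) + ((1 : perp Φ D ≃ₗ[F] perp Φ D) w : V) - ((d : V) + w) = (u d : V) - d := by
      show (u d : V) + (w : V) - ((d : V) + w) = _
      abel
    rw [e]
    exact D.sub_mem (u d).2 d.2
  · intro Y hY hYi
    have h1 : Inv u (Y.comap D.subtype) := by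
      intro d hd
      have h3 := hYi _ hd
      have h4 : glue hdec.compl u 1 (D.subtype d) = u d := glue_left hdec.compl u 1 d
      rw [h4] at h3
      exact h3
    have hmap : (Y.comap D.subtype).map D.subtype = Y := by
      rw [Submodule.map_comap_subtype]
      exact inf_eq_right.2 hY
    rcases hui.min _ le_top h1 with h3 | h3
    · left
      rw [← hmap, h3, Submodule.map_bot]
    · right
      rw [← hmap, h3, Submodule.map_subtype_top]

/-- the element `x` has its centraliser in no conjugate of `H` -/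
theorem not_cent [Finite F] [FiniteDimensional F V] (hΦ : Good Φ) {G H : Subgroup (V ≃ₗ[F] V)} (hG : G ≤ Φ.Iso)
    (hGr : ∀ r, r.Prime → finrank F V < 2 * r → ¬ r ∣ Nat.card F - 1 → ∀ y ∈ Φ.Iso, y ^ r = 1 → y ∈ G)
    (hH : H ≤ G) (hirr : IrrG H) {D₀ : Submodule F V} (hD₀ : Blk Φ H D₀) (h2 : 2 ≤ finrank F D₀) {e : ℕ}
    (he7 : 7 ≤ e) (hev : finrank F V < 2 * e) {x : V ≃ₗ[F] V} (hx : x ∈ XX Φ G e) :
    ¬ ∃ g ∈ G, ∀ c ∈ G, c * x = x * c → g * c * g⁻¹ ∈ H := by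
  rintro ⟨g, hg, hc⟩
  obtain ⟨hxG, D, hD, rfl, hi⟩ := hx
  obtain ⟨p, f, hp, hf, hF⟩ : ∃ p f : ℕ, p.Prime ∧ 0 < f ∧ Nat.card F = p ^ f := by
    have := Fintype.ofFinite F
    obtain ⟨p, hch⟩ := CharP.exists F
    obtain ⟨f, hp, hcard⟩ := FiniteField.card F p
    exact ⟨p, f, hp, f.2, by rw [Nat.card_eq_fintype_card]; exact hcard⟩
  have hcard : Nat.card D = p ^ (f * finrank F D) := by
    rw [Module.natCard_eq_pow_finrank (K := F), hF, pow_mul]
  have hN : 7 ≤ f * finrank F D := le_trans he7 (Nat.le_mul_of_pos_left _ hf)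
  obtain ⟨r, hr, hprim, hr1, hrp⟩ := Cfsg.Agent.Lib.Zsigmondy.exists_primitive (a := p) (n := f * finrank F D)
    hp.two_le (by omega) (by omega) (by omega)
  have hrN : f * finrank F D < r := by
    have h3 := hr.two_le
    have h4 := Nat.le_of_dvd (by omega) hr1
    omega
  have hre : finrank F D ≤ f * finrank F D := Nat.le_mul_of_pos_left _ hf
  obtain ⟨y, hy, hyx, hyr, hy1, hym, hymin⟩ := exists_y hΦ (hG hxG) hD hi (by omega) hp hcard hr hprim
  have hyG : y ∈ G := by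
    refine hGr r hr (by omega) ?_ y hy hyr
    rw [hF, hprim]
    intro h3
    have h4 := Nat.le_of_dvd hf h3
    have h5 : f * 7 ≤ f * finrank F D := Nat.mul_le_mul_left _ he7
    omega
  have h3 := hc y hyG hyx
  refine geo (hH.trans hG) hirr hD₀ h2 hr hyr hy1 hym hymin hev (by omega) (g := g⁻¹) ?_
  rwa [inv_inv]

/-- **The general theorem on groups with blocks.** -/
theorem main [Finite F] [FiniteDimensional F V] (hΦ : Good Φ) {G H : Subgroup (V ≃ₗ[F] V)} (hG : G ≤ Φ.Iso)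
    (hGr : ∀ r, r.Prime → finrank F V < 2 * r → ¬ r ∣ Nat.card F - 1 → ∀ y ∈ Φ.Iso, y ^ r = 1 → y ∈ G)
    (hH : H ≤ G) (hirr : IrrG H) {D₀ : Submodule F V} (hD₀ : Blk Φ H D₀) (h2 : 2 ≤ finrank F D₀) (S : Finset ℕ)
    (hS7 : ∀ e ∈ S, 7 ≤ e) (hSV : ∀ e ∈ S, finrank F V < 2 * e) {C : ℕ}
    (hcount : ∀ e ∈ S, ∃ D : Submodule F V, Φ.NdOn D ∧ finrank F D = e ∧ ∃ Z ⊆ (Φ.on D).Bm,
      (∀ z ∈ Z, ∃ x : stab D, (x : V ≃ₗ[F] V) ∈ G ∧ resHom D x = z) ∧
        Nat.card (Φ.on D).Iso ≤ C * Nat.card Z) :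
    S.card * Nat.card G ≤ 2 * C * ndV G H := by
  classical
  have hfV : Finite V := Module.finite_of_finite F
  have hfGL : Finite (V ≃ₗ[F] V) := DFunLike.finite _
  have h1 : ∀ e ∈ S, Nat.card G ≤ C * Nat.card (XX Φ G e) := by
    intro e he
    obtain ⟨D, hD, rfl, Z, hZ, hZG, hle⟩ := hcount e he
    have hfGL' : Finite (D ≃ₗ[F] D) := DFunLike.finite _
    have h3 := card_XX hG hD (hSV _ he) hZ hZG
    have hZ0 : 0 < Nat.card Z := by
      rcases Nat.eq_zero_or_pos (Nat.card Z) with h0 | h0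
      · rw [h0, mul_zero] at hle
        have : 0 < Nat.card (Φ.on D).Iso := Nat.card_pos
        omega
      · exact h0
    refine Nat.le_of_mul_le_mul_right ?_ hZ0
    calc Nat.card G * Nat.card Z ≤ Nat.card (XX Φ G (finrank F D)) * Nat.card (Φ.on D).Iso := h3
      _ ≤ Nat.card (XX Φ G (finrank F D)) * (C * Nat.card Z) := Nat.mul_le_mul_left _ hle
      _ = _ := by ring
  -- the union
  have h4 : ∑ e ∈ S, Nat.card (XX Φ G e) ≤ 2 * ndV G H := by
    refine le_trans ?_ (card_noncentV_le (G := G) (H := H))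
    have hdisj : ∀ e ∈ S, ∀ e' ∈ S, ∀ x, x ∈ XX Φ G e → x ∈ XX Φ G e' → e = e' := by
      rintro e he e' he' x ⟨-, D, -, rfl, hi⟩ ⟨-, D', -, rfl, hi'⟩
      rw [irr_unique hi hi' (hSV _ he) (hSV _ he')]
    have h5 : ∑ e ∈ S, Nat.card (XX Φ G e) = Nat.card (Σ e : S, XX Φ G e) := by
      rw [Nat.card_sigma, ← Finset.sum_coe_sort S (fun e => Nat.card (XX Φ G e))]
    rw [h5]
    refine Nat.card_le_card_of_injective (fun p : (Σ e : S, XX Φ G e) => (⟨p.2.1, p.2.2.1, ?_⟩ :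
      {x : V ≃ₗ[F] V // x ∈ G ∧ ¬ ∃ g ∈ G, ∀ c ∈ G, c * x = x * c → g * c * g⁻¹ ∈ H})) ?_
    · exact not_cent hΦ hG hGr hH hirr hD₀ h2 (hS7 _ p.1.2) (hSV _ p.1.2) p.2.2
    · rintro ⟨⟨e, he⟩, x⟩ ⟨⟨e', he'⟩, x'⟩ h
      have h6 : (x : V ≃ₗ[F] V) = x' := congrArg Subtype.val h
      have h7 : e = e' := hdisj e he e' he' x x.2 (by rw [h6]; exact x'.2)
      subst h7
      have h8 : x = x' := Subtype.ext h6
      rw [h8]
  calc S.card * Nat.card G = ∑ _e ∈ S, Nat.card G := by rw [Finset.sum_const, smul_eq_mul]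
    _ ≤ ∑ e ∈ S, C * Nat.card (XX Φ G e) := Finset.sum_le_sum h1
    _ = C * ∑ e ∈ S, Nat.card (XX Φ G e) := by rw [Finset.mul_sum]
    _ ≤ C * (2 * ndV G H) := Nat.mul_le_mul_left _ h4
    _ = _ := by ring

end Cfsg.Agent.H42.Bs
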