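import Cfsg.Agent.H42.Bs.Inst
import Cfsg.Agent.LieClassical.OrthFinite

/-!
# S5733, BS35: quadratic forms (helper42)
-/

set_option autoImplicit false

namespace Cfsg.Agent.H42.Bs

open Cfsg.Agent.H847.Bs Cfsg.Agent.H358.Bs Module QuadraticMap
open Cfsg.Agent.LieClassical.OrthCore Cfsg.Agent.LieClassical.OrthTrans Cfsg.Agent.LieClassical.OrthFinite
  Cfsg.Agent.LieClassical.OrthSimple

variable {F V : Type*} [Field F] [AddCommGroup V] [Module F V] {Q : QuadraticForm F V}

/-! ### `O / E` -/

theorem sq_mem_E (hG : LieClassical.OrthTrans.Good Q) {g : V ≃ₗ[F] V} (hg : g ∈ O Q) : g * g ∈ E Q := by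
  have : FiniteDimensional F V := Module.finite_of_finrank_pos (by have := hG.dim; omega)
  have hle : Subgroup.closure (reflSet Q ∪ siegelSet Q) ≤ O Q := (O_eq_closure hG.nondeg).ge
  rw [O_eq_closure hG.nondeg] at hg
  induction hg using Subgroup.closure_induction with
  | mem x hx =>
    rcases hx with ⟨v, hv, rfl⟩ | ⟨u, w, hu, hw, rfl⟩
    · rw [refl_mul_self]; exact one_mem _
    · exact mul_mem (siegel_mem_E hu hw) (siegel_mem_E hu hw)
  | one => rw [mul_one]; exact one_mem _
  | mul x y hx hy ihx ihy =>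
    have e : x * y * (x * y) = (x * y * x⁻¹ * y⁻¹) * (y * (x * x) * y⁻¹) * (y * y) := by group
    rw [e]
    have h1 : x * y * x⁻¹ * y⁻¹ ∈ E Q := by
      rw [← hG.commutator_eq_E]
      exact Subgroup.commutator_mem_commutator (hle hx) (hle hy)
    exact mul_mem (mul_mem h1 (conj_mem_E (hle hy) ihx)) ihy
  | inv x hx ih =>
    have e : x⁻¹ * x⁻¹ = (x * x)⁻¹ := by group
    rw [e]
    exact inv_mem ih

/-- isometries of odd order are in `E Q` -/
theorem mem_E_of_odd (hG : LieClassical.OrthTrans.Good Q) {g : V ≃ₗ[F] V} (hg : g ∈ O Q) {r : ℕ} (hr : Odd r)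
    (hgr : g ^ r = 1) : g ∈ E Q := by
  obtain ⟨k, rfl⟩ := hr
  have h1 : g = (g ^ (k + 1)) * (g ^ (k + 1)) := by
    rw [← pow_add, show k + 1 + (k + 1) = 2 * k + 1 + 1 by ring, pow_succ, hgr, one_mul]
  rw [h1]
  exact sq_mem_E hG (pow_mem hg _)

/-- every isometry is in `E Q` modulo isometries which are trivial on the orthogonal space of a good subspace -/
theorem exists_mul_mem_E (hG : LieClassical.OrthTrans.Good Q) {D : Submodule F V} {x y : V}
    (hxy : Hyp Q x y) (hx : x ∈ perp (frmQ Q) D) (hy : y ∈ perp (frmQ Q) D) {g : V ≃ₗ[F] V} (hg : g ∈ O Q) :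
    ∃ w ∈ O Q, (∀ d ∈ D, w d = d) ∧ w * g ∈ E Q := by
  have : FiniteDimensional F V := Module.finite_of_finrank_pos (by have := hG.dim; omega)
  have hle : Subgroup.closure (reflSet Q ∪ siegelSet Q) ≤ O Q := (O_eq_closure hG.nondeg).ge
  have hinv : ∀ {w : V ≃ₗ[F] V}, (∀ d ∈ D, w d = d) → ∀ d ∈ D, w⁻¹ d = d := by
    intro w hw d hd
    have h1 : w⁻¹ (w d) = d := w.symm_apply_apply d
    rwa [hw d hd] at h1
  rw [O_eq_closure hG.nondeg] at hg
  induction hg using Subgroup.closure_induction with
  | mem z hz =>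
    rcases hz with ⟨v, hv, rfl⟩ | ⟨u, w, hu, hw, rfl⟩
    · -- the vector `x + Q v y`
      have h1 : Q (x + Q v • y) = Q v := by
        rw [Q_add, QuadraticMap.map_smul, hxy.left, hxy.right, polar_smul_right, hxy.pair]
        simp
      have h2 : Q (x + Q v • y) ≠ 0 := by rwa [h1]
      refine ⟨refl Q (x + Q v • y) h2, refl_mem_O h2, ?_, hG.refl_mul_refl_mem hv h2 h1.symm⟩
      intro d hd
      have h3 : polar Q (x + Q v • y) d = 0 := by
        have h4 : x + Q v • y ∈ perp (frmQ Q) D := (perp (frmQ Q) D).add_mem hx ((perp (frmQ Q) D).smul_mem _ hy)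
        exact h4 d hd
      rw [refl_apply, h3, mul_zero, zero_smul, sub_zero]
    · exact ⟨1, one_mem _, fun _ _ => rfl, by rw [one_mul]; exact siegel_mem_E hu hw⟩
  | one => exact ⟨1, one_mem _, fun _ _ => rfl, by rw [one_mul]; exact one_mem _⟩
  | mul a b ha hb iha ihb =>
    obtain ⟨w, hw, hwD, hwa⟩ := iha
    obtain ⟨w', hw', hwD', hwb⟩ := ihb
    refine ⟨w' * w, mul_mem hw' hw, fun d hd => ?_, ?_⟩
    · show w' (w d) = d
      rw [hwD d hd, hwD' d hd]
    · have e : w' * w * (a * b) = (w' * (w * a) * w'⁻¹) * (w' * b) := by group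
      rw [e]
      exact mul_mem (conj_mem_E hw' hwa) hwb
  | inv a ha ih =>
    obtain ⟨w, hw, hwD, hwa⟩ := ih
    refine ⟨w⁻¹, inv_mem hw, hinv hwD, ?_⟩
    have e : w⁻¹ * a⁻¹ = w⁻¹ * (w * a)⁻¹ * w⁻¹⁻¹ := by group
    rw [e]
    exact conj_mem_E (inv_mem hw) (inv_mem hwa)

/-! ### subspaces of minus type -/

/-- singular subspaces of `D` have dimension less than `j` -/
def NoTS (Q : QuadraticForm F V) (D : Submodule F V) (j : ℕ) : Prop :=
  ∀ A ≤ D, (∀ a ∈ A, Q a = 0) → finrank F A < j

theorem noTS_succ [FiniteDimensional F V] {D : Submodule F V} {j : ℕ} (hD : NoTS Q D j) {x y : V}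
    (hxy : Hyp Q x y) (hx : x ∈ perp (frmQ Q) D) (hy : y ∈ perp (frmQ Q) D) :
    NoTS Q (D ⊔ Submodule.span F {x, y}) (j + 1) := by
  intro A hA hQA
  have hpol : ∀ a ∈ A, ∀ b ∈ A, polar Q a b = 0 := by
    intro a ha b hb
    show Q (a + b) - Q a - Q b = 0
    rw [hQA _ (A.add_mem ha hb), hQA a ha, hQA b hb, sub_zero, sub_zero]
  have hpx : ∀ d ∈ D, polar Q x d = 0 := fun d hd => hx d hd
  have hpy : ∀ d ∈ D, polar Q y d = 0 := fun d hd => hy d hd
  -- the projection
  let p : V →ₗ[F] V := LinearMap.id - (polarBilin Q y).smulRight x - (polarBilin Q x).smulRight y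
  have hp : ∀ v, p v = v - polar Q y v • x - polar Q x v • y := fun v => rfl
  have hdec : ∀ a ∈ A, ∃ d ∈ D, ∃ s t : F, a = d + (s • x + t • y) := by
    intro a ha
    obtain ⟨d, hd, u, hu, rfl⟩ := Submodule.mem_sup.1 (hA ha)
    obtain ⟨s, t, rfl⟩ := Submodule.mem_span_pair.1 hu
    exact ⟨d, hd, s, t, rfl⟩
  have hcalc : ∀ d ∈ D, ∀ s t : F, polar Q x (d + (s • x + t • y)) = t ∧ polar Q y (d + (s • x + t • y)) = s := by
    intro d hd s t
    constructor
    · simp only [polar_add_right, polar_smul_right, hpx d hd, hxy.polar_left, hxy.pair, smul_eq_mul]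
      ring
    · simp only [polar_add_right, polar_smul_right, hpy d hd, hxy.polar_right, hxy.pair', smul_eq_mul]
      ring
  have hpD : ∀ a ∈ A, p a ∈ D := by
    intro a ha
    obtain ⟨d, hd, s, t, rfl⟩ := hdec a ha
    obtain ⟨h1, h2⟩ := hcalc d hd s t
    rw [hp, h1, h2]
    have e : d + (s • x + t • y) - s • x - t • y = d := by abel
    rw [e]
    exact hd
  -- the part orthogonal to `x`
  let B : Submodule F V := A ⊓ LinearMap.ker (polarBilin Q x)
  have hB : ∀ b ∈ B, b ∈ A ∧ polar Q x b = 0 := fun b hb => ⟨hb.1, LinearMap.mem_ker.1 hb.2⟩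
  have hBQ : ∀ b ∈ B, Q (p b) = 0 := by
    intro b hb
    obtain ⟨hbA, hbx⟩ := hB b hb
    rw [hp, hbx, zero_smul, sub_zero, sub_eq_add_neg, ← neg_smul, Q_add, QuadraticMap.map_smul, hxy.left,
      hQA b hbA, polar_smul_right, polar_comm Q b x, hbx]
    simp
  have h1 : finrank F (B.map p) < j := by
    apply hD
    · rintro _ ⟨b, hb, rfl⟩
      exact hpD b (hB b hb).1
    · rintro _ ⟨b, hb, rfl⟩
      exact hBQ b hb
  have h2 : finrank F (B.map p) + finrank F (B ⊓ LinearMap.ker p : Submodule F V) = finrank F B := by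
    have h3 := LinearMap.finrank_range_add_finrank_ker (p.domRestrict B)
    rw [LinearMap.range_domRestrict] at h3
    have h4 : finrank F (LinearMap.ker (p.domRestrict B)) = finrank F (B ⊓ LinearMap.ker p : Submodule F V) := by
      rw [LinearMap.ker_domRestrict]
      rw [← Submodule.finrank_map_subtype_eq, Submodule.map_comap_subtype]
    rw [h4] at h3
    exact h3
  have h3 : (B ⊓ LinearMap.ker p : Submodule F V) ≤ Submodule.span F {x} := by
    rintro b ⟨hb, hbp⟩
    obtain ⟨hbA, hbx⟩ := hB b hb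
    have hbp' : p b = 0 := hbp
    rw [hp, hbx, zero_smul, sub_zero, sub_eq_zero] at hbp'
    rw [hbp']
    exact Submodule.smul_mem _ _ (Submodule.mem_span_singleton_self x)
  by_cases hxA : x ∈ A
  · have hBA : B = A := by
      apply le_antisymm inf_le_left
      intro a ha
      exact ⟨ha, LinearMap.mem_ker.2 (hpol x hxA a ha)⟩
    have h4 := Submodule.finrank_mono h3
    have h5 : finrank F (Submodule.span F {x}) ≤ 1 := by
      rw [finrank_span_singleton hxy.left_ne]
    rw [hBA] at h1 h2 h4
    omega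
  · have h4 : (B ⊓ LinearMap.ker p : Submodule F V) = ⊥ := by
      rw [Submodule.eq_bot_iff]
      intro b hb
      obtain ⟨c, rfl⟩ := Submodule.mem_span_singleton.1 (h3 hb)
      by_cases hc : c = 0
      · rw [hc, zero_smul]
      · exact absurd ((A.smul_mem_iff hc).1 (hB _ hb.1).1) hxA
    rw [h4, finrank_bot, add_zero] at h2
    have h5 : finrank F A ≤ finrank F B + 1 := by
      have h6 := Submodule.finrank_sup_add_finrank_inf_eq A (LinearMap.ker (polarBilin Q x))
      have h7 := LinearMap.finrank_range_add_finrank_ker (polarBilin Q x)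
      have h8 : finrank F (LinearMap.range (polarBilin Q x)) ≤ 1 := by
        refine (Submodule.finrank_le _).trans ?_
        rw [finrank_self]
      have h9 := Submodule.finrank_le (A ⊔ LinearMap.ker (polarBilin Q x))
      have h10 : finrank F B = finrank F (A ⊓ LinearMap.ker (polarBilin Q x) : Submodule F V) := rfl
      omega
    omega

/-- the span of a hyperbolic pair -/
theorem hyp_span [FiniteDimensional F V] {x y : V} (hxy : Hyp Q x y) :
    (frmQ Q).NdOn (Submodule.span F {x, y}) ∧ finrank F (Submodule.span F {x, y}) = 2 := by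
  have key : ∀ a b : F, polar Q (a • x + b • y) y = a ∧ polar Q (a • x + b • y) x = b := by
    intro a b
    constructor
    · simp only [polar_add_left, polar_smul_left, hxy.polar_right, hxy.pair, smul_eq_mul]
      ring
    · simp only [polar_add_left, polar_smul_left, hxy.polar_left, hxy.pair', smul_eq_mul]
      ring
  constructor
  · intro z hz hz0
    obtain ⟨a, b, rfl⟩ := Submodule.mem_span_pair.1 hz
    have e1 : polar Q (a • x + b • y) y = 0 := hz0 y (Submodule.subset_span (by simp))
    have e2 : polar Q (a • x + b • y) x = 0 := hz0 x (Submodule.subset_span (by simp))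
    rw [(key a b).1] at e1
    rw [(key a b).2] at e2
    rw [e1, e2, zero_smul, zero_smul, add_zero]
  · have hli : LinearIndependent F ![x, y] := by
      rw [LinearIndependent.pair_iff]
      intro a b hab
      have e1 := (key a b).1
      have e2 := (key a b).2
      rw [hab, polar_zero_left] at e1 e2
      exact ⟨e1.symm, e2.symm⟩
    have hr : Set.range ![x, y] = {x, y} := by
      rw [Matrix.range_cons, Matrix.range_cons, Matrix.range_empty, Set.union_empty]
      rfl
    rw [← hr, finrank_span_eq_card hli, Fintype.card_fin]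

/-- nondegenerate subspaces of dimension at least five contain hyperbolic pairs -/
theorem exists_hyp_in [Finite F] [FiniteDimensional F V] {W : Submodule F V} (hW : (frmQ Q).NdOn W)
    (h5 : 5 ≤ finrank F W) : ∃ x ∈ W, ∃ y ∈ W, Hyp Q x y := by
  have hG := good_of_finite (nondeg_comp hW) h5
  obtain ⟨x, y, h⟩ := hG.exists_hyp
  exact ⟨x, x.2, y, y.2, ⟨h.left, h.right, h.pair⟩⟩

/-- anisotropic polynomials -/
theorem exists_aniso (F : Type*) [Field F] [Finite F] : ∃ c : F, ∀ t : F, t * t + t + c ≠ 0 := by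
  have h1 : ¬ Function.Injective (fun t : F => t * t + t) := by
    intro h
    have h2 : (fun t : F => t * t + t) 0 = (fun t : F => t * t + t) (-1) := by
      show (0 : F) * 0 + 0 = (-1) * (-1) + (-1)
      ring
    have h3 := h h2
    have h4 : (1 : F) = 0 := by linear_combination h3
    exact one_ne_zero h4
  have h2 : ¬ Function.Surjective (fun t : F => t * t + t) := fun h => h1 (Finite.injective_iff_surjective.2 h)
  unfold Function.Surjective at h2
  push Not at h2
  obtain ⟨c, hc⟩ := h2
  refine ⟨-c, fun t h => hc t ?_⟩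
  linear_combination h

/-- anisotropic planes -/
theorem exists_plane [Finite F] [FiniteDimensional F V] (hG : LieClassical.OrthTrans.Good Q) :
    ∃ P : Submodule F V, (frmQ Q).NdOn P ∧ finrank F P = 2 ∧ NoTS Q P 1 := by
  obtain ⟨c, hc⟩ := exists_aniso F
  obtain ⟨x, y, hxy⟩ := hG.exists_hyp
  obtain ⟨z, w, hzw, hxz, hxw, hyz, hyw⟩ := hG.exists_hyp2 hxy
  -- `a = x + y`, `b = y + z + c w`
  set a : V := x + y with ha
  set b : V := y + (z + c • w) with hb
  have hzx : polar Q z x = 0 := by rw [polar_comm]; exact hxz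
  have hwx : polar Q w x = 0 := by rw [polar_comm]; exact hxw
  have hzy : polar Q z y = 0 := by rw [polar_comm]; exact hyz
  have hwy : polar Q w y = 0 := by rw [polar_comm]; exact hyw
  have haa : Q a = 1 := by rw [ha, Q_add, hxy.left, hxy.right, hxy.pair]; ring
  have hab : polar Q a b = 1 := by
    rw [ha, hb]
    simp only [polar_add_left, polar_add_right, polar_smul_right, hxy.pair, hxy.polar_right, hxz, hxw, hyz, hyw,
      smul_eq_mul]
    ring
  have hbb : Q b = c := by
    rw [hb, Q_add, Q_add, QuadraticMap.map_smul, hxy.right, hzw.left, hzw.right]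
    simp only [polar_add_right, polar_smul_right, hyz, hyw, hzw.pair, smul_eq_mul]
    ring
  have hQ : ∀ s t : F, Q (s • a + t • b) = s * s + s * t + t * t * c := by
    intro s t
    rw [Q_add, QuadraticMap.map_smul, QuadraticMap.map_smul, haa, hbb, polar_smul_left, polar_smul_right, hab]
    simp only [smul_eq_mul]
    ring
  have han : ∀ s t : F, Q (s • a + t • b) = 0 → s = 0 ∧ t = 0 := by
    intro s t h
    rw [hQ] at h
    by_cases ht : t = 0
    · subst ht
      have h1 : s * s = 0 := by linear_combination h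
      exact ⟨mul_self_eq_zero.1 h1, rfl⟩
    · exfalso
      apply hc (s * t⁻¹)
      field_simp
      linear_combination h
  have hli : LinearIndependent F ![a, b] := by
    rw [LinearIndependent.pair_iff]
    intro s t h
    apply han
    rw [h, QuadraticMap.map_zero]
  have hr : Set.range ![a, b] = {a, b} := by
    rw [Matrix.range_cons, Matrix.range_cons, Matrix.range_empty, Set.union_empty]
    rfl
  have hP2 : finrank F (Submodule.span F {a, b}) = 2 := by
    rw [← hr, finrank_span_eq_card hli, Fintype.card_fin]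
  refine ⟨Submodule.span F {a, b}, ?_, hP2, ?_⟩
  · intro v hv hv0
    obtain ⟨s, t, rfl⟩ := Submodule.mem_span_pair.1 hv
    have e1 : polar Q (s • a + t • b) a = 0 := hv0 a (Submodule.subset_span (by simp))
    have e2 : polar Q (s • a + t • b) b = 0 := hv0 b (Submodule.subset_span (by simp))
    have hba : polar Q b a = 1 := by rw [polar_comm]; exact hab
    simp only [polar_add_left, polar_smul_left, polar_self', haa, hbb, hab, hba, smul_eq_mul] at e1 e2
    -- `2 s + t = 0`, `s + 2 c t = 0`
    have h1 : s * (4 * c - 1) = 0 := by linear_combination 2 * c * e1 - e2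
    have h2 : 4 * c - 1 ≠ 0 := by
      intro h2
      have h20 : (2 : F) ≠ 0 := by
        intro h20
        apply one_ne_zero (α := F)
        linear_combination (2 * c) * h20 - h2
      apply hc (-(2 : F)⁻¹)
      have h3 : (2 : F) * (2 : F)⁻¹ = 1 := mul_inv_cancel₀ h20
      have h4 : (4 : F) * ((-(2 : F)⁻¹) * (-(2 : F)⁻¹) + -(2 : F)⁻¹ + c) = 0 := by
        linear_combination h2 + (2 * (2 : F)⁻¹ - 1) * h3
      have h5 : (4 : F) ≠ 0 := by
        have : (4 : F) = 2 * 2 := by ring
        rw [this]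
        exact mul_ne_zero h20 h20
      exact (mul_eq_zero.1 h4).resolve_left h5
    have hs : s = 0 := (mul_eq_zero.1 h1).resolve_right h2
    have ht : t = 0 := by linear_combination e1 - 2 * hs
    rw [hs, ht, zero_smul, zero_smul, add_zero]
  · intro A hA hQA
    have hA0 : A = ⊥ := by
      rw [Submodule.eq_bot_iff]
      intro v hv
      obtain ⟨s, t, rfl⟩ := Submodule.mem_span_pair.1 (hA hv)
      obtain ⟨h1, h2⟩ := han s t (hQA _ hv)
      rw [h1, h2, zero_smul, zero_smul, add_zero]
    rw [hA0, finrank_bot]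
    norm_num

/-- **nondegenerate subspaces of minus type** -/
theorem exists_minus [Finite F] [FiniteDimensional F V] (hQ : Nondeg Q) (j : ℕ) (hj : 1 ≤ j)
    (hn : 2 * j + 3 ≤ finrank F V) :
    ∃ D : Submodule F V, (frmQ Q).NdOn D ∧ finrank F D = 2 * j ∧ NoTS Q D j := by
  induction j, hj using Nat.le_induction with
  | base => exact exists_plane (good_of_finite hQ hn)
  | succ j hj ih =>
    obtain ⟨D, hD, hd, hN⟩ := ih (by omega)
    have hg := good_of_quad hQ
    have h1 := finrank_perp hg hD
    obtain ⟨x, hx, y, hy, hxy⟩ := exists_hyp_in (ndOn_perp hg hD) (by omega)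
    obtain ⟨h2, h3⟩ := hyp_span hxy
    have hle : Submodule.span F {x, y} ≤ perp (frmQ Q) D := by
      rw [Submodule.span_le]
      intro z hz
      rcases hz with rfl | hz
      · exact hx
      · rw [Set.mem_singleton_iff] at hz
        subst hz
        exact hy
    obtain ⟨h4, h5⟩ := ndOn_sup hD h2 hle
    exact ⟨_, h4, by rw [h5, hd, h3]; ring, noTS_succ hN hxy hx hy⟩

theorem not_plusT {D : Submodule F V} {j : ℕ} (hd : finrank F D = 2 * j) (hN : NoTS Q D j) :
    ¬ PlusT (Q.comp D.subtype) := by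
  rintro ⟨A, hA, hdim⟩
  have h1 := hN (A.map D.subtype) (Submodule.map_subtype_le _ _) (by
    rintro _ ⟨a, ha, rfl⟩
    exact hA.2 a ha)
  rw [Submodule.finrank_map_subtype_eq] at h1
  omega

end Cfsg.Agent.H42.Bs
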