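import Cfsg.Agent.H42.Bs.Fin
import Cfsg.Agent.H59.Bs.SpMinus
import Cfsg.Agent.H881.Bs.HermMinus
import Cfsg.Agent.H847.Bs.Stmts

/-!
# S5733, BS35: the symplectic and the unitary case (helper42)
-/

set_option autoImplicit false

namespace Cfsg.Agent.H42.Bs

open Cfsg.Agent.H847.Bs Cfsg.Agent.H358.Bs Module
open Cfsg.Agent.LieClassical.OrthCore (O E Nondeg E_le_O)

universe u v

theorem ar_ge {j : ℕ} (hj : 16 ≤ j) : (1 / 2 : ℝ) ≤ ar j := by
  unfold ar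
  have h1 : (4 / 5 : ℝ) ^ j ≤ (4 / 5 : ℝ) ^ 16 := pow_le_pow_of_le_one (by norm_num) (by norm_num) hj
  have h2 : (16 : ℝ) * (4 / 5 : ℝ) ^ 16 ≤ 1 / 2 := by norm_num
  linarith

theorem le_of_ar {j N M : ℕ} {m : ℝ} (hj : 16 ≤ j) (hm : 0 < m) (h : ar j / m * (N : ℝ) ≤ M) :
    (N : ℝ) ≤ 2 * m * M := by
  have h1 := ar_ge hj
  have h2 : (1 / 2 : ℝ) / m * N ≤ M :=
    le_trans (mul_le_mul_of_nonneg_right (div_le_div_of_nonneg_right h1 hm.le) (Nat.cast_nonneg _)) h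
  have h3 : (1 / 2 : ℝ) / m * N = N / (2 * m) := by
    field_simp
  rw [h3, div_le_iff₀ (by linarith)] at h2
  linarith

theorem spMinus : SpMinus.{u, v} := by
  refine ⟨16, ?_⟩
  intro F V _ _ _ _ _ Φ j hΦ hd hj
  have h1 := Cfsg.Agent.H59.Bs.sp_minus hΦ (by omega) hd
  have h2 := le_of_ar (m := 2 * (j : ℝ)) hj (by
    have : (0 : ℝ) < j := by exact_mod_cast (by omega : 0 < j)
    linarith) h1
  have h3 : (Nat.card Φ.Iso : ℝ) ≤ ((4 * j * Nat.card Φ.Bm : ℕ) : ℝ) := by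
    push_cast
    linarith
  exact_mod_cast h3

theorem hermMinus : HermMinus.{u, v} := by
  refine ⟨16, ?_⟩
  intro F V _ _ _ _ _ Φ r j hΦ hd hj
  have h1 := Cfsg.Agent.H881.Bs.herm_minus hΦ hd ⟨j, rfl⟩
  have h2 := le_of_ar (m := ((2 * j + 1 : ℕ) : ℝ)) (by omega) (by
    exact_mod_cast (by omega : 0 < 2 * j + 1)) h1
  have h3 : (Nat.card Φ.Iso : ℝ) ≤ ((2 * (2 * j + 1) * Nat.card Φ.Bm : ℕ) : ℝ) := by
    push_cast at h2 ⊢
    linarith
  exact_mod_cast h3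

/-- **BS35, symplectic groups** -/
theorem s35s : S35s := blocks_sp_of spMinus

/-- **BS35, unitary groups** -/
theorem s35u : S35u := blocks_su_of hermMinus

end Cfsg.Agent.H42.Bs
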