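import Cfsg.Agent.H42.Bs.Good

/-!
# S5733, BS35: irreducible isometries commute with isometries of primitive prime order (helper42)
-/

set_option autoImplicit false

namespace Cfsg.Agent.H42.Bs

open Cfsg.Agent.H847.Bs Module

/-- a subring of a finite domain of order `p ^ N` which contains an element of order `r`, `r` a primitive prime divisor of
`p ^ N - 1`, is everything -/
theorem subring_eq_top {R : Type*} [Ring R] [IsDomain R] [Finite R] {p N r : ℕ} (hp : p.Prime)
    (hR : Nat.card R = p ^ N) (hr : r.Prime) (hprim : ∀ m, r ∣ p ^ m - 1 ↔ N ∣ m) (K : Subring R) {u : R} (hu : u ∈ K)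
    (hur : u ^ r = 1) (hu1 : u ≠ 1) : K = ⊤ := by
  classical
  have hcard : ∃ j ≤ N, Nat.card K = p ^ j := by
    have h1 : Nat.card K ∣ p ^ N := by
      rw [← hR]
      exact AddSubgroup.card_addSubgroup_dvd_card K.toAddSubgroup
    exact (Nat.dvd_prime_pow hp).1 h1
  obtain ⟨j, hj, hK⟩ := hcard
  have hdvd : r ∣ Nat.card K - 1 := by
    have : IsDomain K := inferInstance
    let _ := Fintype.ofFinite K
    let _ : DivisionRing K := Fintype.divisionRingOfIsDomain K
    rw [← Nat.card_units K]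
    let v : K := ⟨u, hu⟩
    have hv : v ^ r = 1 := Subtype.ext hur
    have hv1 : v ≠ 1 := fun h => hu1 (congrArg Subtype.val h)
    let w : Kˣ := Units.ofPowEqOne v r hv hr.ne_zero
    have hw : w ^ r = 1 := Units.ext hv
    have hw1 : w ≠ 1 := fun h => hv1 (congrArg Units.val h)
    have : Fact r.Prime := ⟨hr⟩
    rw [← orderOf_eq_prime hw hw1]
    exact orderOf_dvd_natCard w
  rw [hK] at hdvd
  have hNj := (hprim j).1 hdvd
  have hjN : j = N ∨ j = 0 := by
    rcases Nat.eq_zero_or_pos j with h0 | h0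
    · exact Or.inr h0
    · exact Or.inl (le_antisymm hj (Nat.le_of_dvd h0 hNj))
  rcases hjN with rfl | rfl
  · have h1 : Nat.card K.toAddSubgroup = Nat.card R := by rw [hR, ← hK]; rfl
    have h2 := AddSubgroup.eq_top_of_card_eq _ h1
    rw [Subring.eq_top_iff']
    intro y
    have h3 : y ∈ K.toAddSubgroup := by rw [h2]; trivial
    exact h3
  · exfalso
    rw [pow_zero] at hK
    have : Subsingleton K := (Nat.card_eq_one_iff_unique.1 hK).1
    exact hu1 (congrArg Subtype.val (Subsingleton.elim (⟨u, hu⟩ : K) 1))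

section cent

variable {F V : Type*} [Field F] [AddCommGroup V] [Module F V]

/-- an endomorphism commuting with an irreducible automorphism is injective or zero -/
theorem inj_of_comm {x : V ≃ₗ[F] V} (hx : Irr x ⊤) {b : V →ₗ[F] V} (hb : (x : V →ₗ[F] V) * b = b * x) (hb0 : b ≠ 0) :
    Function.Injective b := by
  rw [← LinearMap.ker_eq_bot]
  have h1 : Inv x (LinearMap.ker b) := by
    intro v hv
    rw [LinearMap.mem_ker] at hv ⊢
    have h2 := LinearMap.congr_fun hb v
    rw [Module.End.mul_apply, Module.End.mul_apply, hv, map_zero] at h2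
    exact h2.symm
  rcases hx.min _ le_top h1 with h | h
  · exact h
  · exact absurd (LinearMap.ker_eq_top.1 h) hb0

/-- the centraliser of an irreducible automorphism -/
def cent (x : V ≃ₗ[F] V) : Subring (V →ₗ[F] V) := Subring.centralizer {(x : V →ₗ[F] V)}

theorem mem_cent {x : V ≃ₗ[F] V} {b : V →ₗ[F] V} : b ∈ cent x ↔ (x : V →ₗ[F] V) * b = b * x := by
  unfold cent
  rw [Subring.mem_centralizer_iff]
  constructor
  · intro h
    exact h _ rfl
  · rintro h _ rfl
    exact h

theorem self_mem_cent (x : V ≃ₗ[F] V) : (x : V →ₗ[F] V) ∈ cent x := mem_cent.2 rfl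

theorem isDomain_cent {x : V ≃ₗ[F] V} (hx : Irr x ⊤) : IsDomain (cent x) := by
  have hV : Nontrivial V := by
    by_contra h
    rw [not_nontrivial_iff_subsingleton] at h
    exact hx.ne_bot (Subsingleton.elim _ _)
  have : Nontrivial (cent x) := ⟨⟨0, 1, fun h => by
    obtain ⟨v, hv⟩ := exists_ne (0 : V)
    have h1 : (0 : V →ₗ[F] V) = 1 := congrArg Subtype.val h
    exact hv (LinearMap.congr_fun h1 v).symm⟩⟩
  have : NoZeroDivisors (cent x) := by
    constructor
    intro b c hbc
    by_cases hb : b = 0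
    · exact Or.inl hb
    right
    have hb' : (b : V →ₗ[F] V) ≠ 0 := fun h => hb (Subtype.ext h)
    have hinj := inj_of_comm hx (mem_cent.1 b.2) hb'
    apply Subtype.ext
    ext v
    apply hinj
    have h1 : (b : V →ₗ[F] V) * (c : V →ₗ[F] V) = 0 := congrArg Subtype.val hbc
    have h2 := LinearMap.congr_fun h1 v
    rw [Module.End.mul_apply] at h2
    rw [h2]
    simp
  exact NoZeroDivisors.to_isDomain _

/-- every vector is the image of a given one under a polynomial in `x` -/
theorem exists_poly {x : V ≃ₗ[F] V} (hx : Irr x ⊤) {v₀ : V} (h0 : v₀ ≠ 0) (w : V) :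
    ∃ b ∈ Algebra.adjoin F {(x : V →ₗ[F] V)}, b v₀ = w := by
  let Y : Submodule F V :=
    (Subalgebra.toSubmodule (Algebra.adjoin F {(x : V →ₗ[F] V)})).map (LinearMap.applyₗ v₀)
  have h1 : Inv x Y := by
    rintro _ ⟨b, hb, rfl⟩
    refine ⟨(x : V →ₗ[F] V) * b, ?_, rfl⟩
    exact Subalgebra.mul_mem _ (Algebra.subset_adjoin rfl) hb
  have h2 : Y ≠ ⊥ := by
    intro h
    have h3 : v₀ ∈ Y := ⟨1, Subalgebra.one_mem _, rfl⟩
    rw [h, Submodule.mem_bot] at h3
    exact h0 h3
  rcases hx.min Y le_top h1 with h | h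
  · exact absurd h h2
  · have : w ∈ Y := by rw [h]; trivial
    obtain ⟨b, hb, hw⟩ := this
    exact ⟨b, hb, hw⟩

theorem adjoin_le_cent {x : V ≃ₗ[F] V} {b c : V →ₗ[F] V} (hb : b ∈ Algebra.adjoin F {(x : V →ₗ[F] V)})
    (hc : c ∈ cent x) : b * c = c * b := by
  induction hb using Algebra.adjoin_induction with
  | mem y hy =>
    rw [Set.mem_singleton_iff] at hy
    subst hy
    exact mem_cent.1 hc
  | algebraMap r => exact Algebra.commutes r c
  | add y z _ _ hy hz => rw [add_mul, mul_add, hy, hz]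
  | mul y z _ _ hy hz => rw [mul_assoc, hz, ← mul_assoc, hy, mul_assoc]

theorem mem_adjoin_of_cent {x : V ≃ₗ[F] V} (hx : Irr x ⊤) {b : V →ₗ[F] V} (hb : b ∈ cent x) :
    b ∈ Algebra.adjoin F {(x : V →ₗ[F] V)} := by
  obtain ⟨v₀, -, h0⟩ := Submodule.exists_mem_ne_zero_of_ne_bot hx.ne_bot
  obtain ⟨c, hc, hcb⟩ := exists_poly hx h0 (b v₀)
  have hcc : c ∈ cent x := mem_cent.2 (adjoin_le_cent hc (self_mem_cent x)).symm
  have h1 : b - c = 0 := by
    by_contra h
    have h2 := inj_of_comm hx (mem_cent.1 (Subring.sub_mem _ hb hcc)) h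
    apply h0
    apply h2
    rw [LinearMap.sub_apply, hcb, sub_self, map_zero]
  rw [sub_eq_zero.1 h1]
  exact hc

theorem cent_comm {x : V ≃ₗ[F] V} (hx : Irr x ⊤) {b c : V →ₗ[F] V} (hb : b ∈ cent x) (hc : c ∈ cent x) :
    b * c = c * b := adjoin_le_cent (mem_adjoin_of_cent hx hb) hc

theorem card_cent {x : V ≃ₗ[F] V} (hx : Irr x ⊤) : Nat.card (cent x) = Nat.card V := by
  obtain ⟨v₀, -, h0⟩ := Submodule.exists_mem_ne_zero_of_ne_bot hx.ne_bot
  refine Nat.card_eq_of_bijective (fun b : cent x => (b : V →ₗ[F] V) v₀) ⟨?_, ?_⟩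
  · intro b c hbc
    by_contra hne
    have hbc' : (b : V →ₗ[F] V) - c ≠ 0 := fun h => hne (Subtype.ext (sub_eq_zero.1 h))
    have h2 := inj_of_comm hx (mem_cent.1 (Subring.sub_mem _ b.2 c.2)) hbc'
    apply h0
    apply h2
    have hbc2 : (b : V →ₗ[F] V) v₀ = (c : V →ₗ[F] V) v₀ := hbc
    rw [LinearMap.sub_apply, hbc2, sub_self, map_zero]
  · intro w
    obtain ⟨b, hb, hw⟩ := exists_poly hx h0 w
    exact ⟨⟨b, mem_cent.2 (adjoin_le_cent hb (self_mem_cent x)).symm⟩, hw⟩

end cent

section torus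

variable {F V : Type*} [Field F] [AddCommGroup V] [Module F V] {Φ : Frm F V}

/-- the adjoint of an element of the centraliser of an isometry -/
theorem adj_mem_cent (hΦ : Good Φ) {x : V ≃ₗ[F] V} (hx : x ∈ Φ.Iso) {b c : V →ₗ[F] V} (hb : b ∈ cent x)
    (h : Adj Φ b c) : c ∈ cent x := by
  rw [mem_cent] at hb ⊢
  ext w
  apply hΦ.ext_right
  intro v
  obtain ⟨v, rfl⟩ := x.surjective v
  rw [Module.End.mul_apply, Module.End.mul_apply]
  have h1 := LinearMap.congr_fun hb v
  rw [Module.End.mul_apply, Module.End.mul_apply] at h1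
  have h2 : Φ.B (x v) (x (c w)) = Φ.B v (c w) := hx.1 _ _
  have h3 : Φ.B (x (b v)) (x w) = Φ.B (b v) w := hx.1 _ _
  have h4 : Φ.B (x v) (c (x w)) = Φ.B (b (x v)) (x w) := (h _ _).symm
  show Φ.B (x v) (x (c w)) = Φ.B (x v) (c (x w))
  rw [h2, h4, ← h, ← h3]
  congr 1

theorem self_adj_ne (hΦ : Good Φ) {x : V ≃ₗ[F] V} (hx : x ∈ Φ.Iso) (hi : Irr x ⊤) (h2 : 2 ≤ finrank F V) :
    ¬ Adj Φ (x : V →ₗ[F] V) x := by
  intro h
  have h1 : (x : V →ₗ[F] V) * x = 1 := by
    ext w
    apply hΦ.ext_right
    intro v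
    have h3 : Φ.B (x v) (x w) = Φ.B v w := hx.1 _ _
    have h4 : Φ.B (x v) (x w) = Φ.B v (x (x w)) := h _ _
    rw [Module.End.mul_apply]
    exact h4.symm.trans h3
  have := isDomain_cent hi
  let a : cent x := ⟨x, self_mem_cent x⟩
  have h5 : a * a = 1 := Subtype.ext h1
  have h6 : ∃ c : F, ∀ v, x v = c • v := by
    rcases mul_self_eq_one_iff.1 h5 with h7 | h7
    · refine ⟨1, fun v => ?_⟩
      rw [one_smul]
      exact LinearMap.congr_fun (congrArg Subtype.val h7) v
    · refine ⟨-1, fun v => ?_⟩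
      rw [neg_one_smul]
      exact LinearMap.congr_fun (congrArg Subtype.val h7) v
  obtain ⟨c, hc⟩ := h6
  obtain ⟨v₀, -, h0⟩ := Submodule.exists_mem_ne_zero_of_ne_bot hi.ne_bot
  have h8 : Inv x (Submodule.span F {v₀}) := by
    intro v hv
    rw [hc]
    exact Submodule.smul_mem _ _ hv
  rcases hi.min _ le_top h8 with h9 | h9
  · exact h0 (Submodule.span_singleton_eq_bot.1 h9)
  · have h10 := finrank_span_singleton (K := F) h0
    rw [h9, finrank_top] at h10
    omega

/-- **An irreducible isometry commutes with an irreducible isometry of primitive prime order.** -/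
theorem exists_torus [Finite F] [FiniteDimensional F V] (hΦ : Good Φ) {x : V ≃ₗ[F] V} (hx : x ∈ Φ.Iso)
    (hi : Irr x ⊤) (h2 : 2 ≤ finrank F V) {p N r : ℕ} (hp : p.Prime) (hV : Nat.card V = p ^ N) (hr : r.Prime)
    (hprim : ∀ m, r ∣ p ^ m - 1 ↔ N ∣ m) :
    ∃ u ∈ Φ.Iso, u * x = x * u ∧ u ^ r = 1 ∧ u ≠ 1 ∧ Irr u ⊤ := by
  classical
  have hfV : Finite V := Module.finite_of_finite F
  have hdom := isDomain_cent hi
  have hcard : Nat.card (cent x) = p ^ N := by rw [card_cent hi, hV]
  have hfin : Finite (cent x) := Nat.finite_of_card_ne_zero (by rw [hcard]; exact pow_ne_zero _ hp.ne_zero)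
  -- an element of order `r`
  obtain ⟨u, hu⟩ : ∃ u : (cent x)ˣ, orderOf u = r := by
    have : Fact r.Prime := ⟨hr⟩
    apply exists_prime_orderOf_dvd_card'
    let _ := Fintype.ofFinite (cent x)
    let _ : DivisionRing (cent x) := Fintype.divisionRingOfIsDomain (cent x)
    have h1 := Nat.card_units (cent x)
    rw [hcard] at h1
    have h3 : r ∣ p ^ N - 1 := (hprim N).2 (dvd_refl N)
    rw [← h1] at h3
    exact h3
  have hur : u ^ r = 1 := by rw [← hu]; exact pow_orderOf_eq_one u
  have hu1 : u ≠ 1 := by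
    rintro rfl
    rw [orderOf_one] at hu
    exact hr.one_lt.ne hu
  set b : V →ₗ[F] V := ((u : cent x) : V →ₗ[F] V) with hb
  set b' : V →ₗ[F] V := (((u⁻¹ : (cent x)ˣ) : cent x) : V →ₗ[F] V) with hb'
  have hbb' : b * b' = 1 := congrArg Subtype.val (Units.mul_inv u)
  have hb'b : b' * b = 1 := congrArg Subtype.val (Units.inv_mul u)
  have hbr : b ^ r = 1 := by
    have h1 := congrArg (fun z : (cent x)ˣ => ((z : cent x) : V →ₗ[F] V)) hur
    simpa using h1
  have hb1 : b ≠ 1 := fun h => hu1 (Units.ext (Subtype.ext h))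
  have hbc : b ∈ cent x := (u : cent x).2
  -- the adjoint
  obtain ⟨c, hc⟩ := hΦ.exists_adj b
  have hcc : c ∈ cent x := adj_mem_cent hΦ hx hbc hc
  have hcr : c ^ r = 1 := by
    have h1 := hc.pow r
    rw [hbr] at h1
    exact (h1.unique hΦ Adj.one)
  have hcomm : b * c = c * b := cent_comm hi hbc hcc
  -- the subring of selfadjoint elements
  have hbc1 : b * c = 1 := by
    by_contra hne
    let K : Subring (cent x) :=
      { carrier := {y | Adj Φ (y : V →ₗ[F] V) y}
        mul_mem' := by
          intro y z hy hz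
          have h1 := Adj.mul (Φ := Φ) hy hz
          show Adj Φ ((y : V →ₗ[F] V) * z) ((y : V →ₗ[F] V) * z)
          rw [cent_comm hi z.2 y.2] at h1
          exact h1
        one_mem' := Adj.one
        add_mem' := fun hy hz => Adj.add hy hz
        zero_mem' := by
          intro v w
          show Φ.B 0 w = Φ.B v 0
          rw [B_zero_left, B_zero_right]
        neg_mem' := fun hy => Adj.neg hy }
    have hK : K = ⊤ := by
      refine subring_eq_top hp hcard hr hprim K (u := ⟨b * c, Subring.mul_mem _ hbc hcc⟩) ?_ ?_ ?_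
      · show Adj Φ (b * c) (b * c)
        exact hc.mul (hc.symm hΦ)
      · apply Subtype.ext
        show (b * c) ^ r = 1
        rw [(show Commute b c from hcomm).mul_pow, hbr, hcr, one_mul]
      · intro h
        exact hne (congrArg Subtype.val h)
    apply self_adj_ne hΦ hx hi h2
    have h3 : (⟨x, self_mem_cent x⟩ : cent x) ∈ K := by rw [hK]; trivial
    exact h3
  -- the automorphism
  let g : V ≃ₗ[F] V := LinearEquiv.ofLinearMap b b' hbb' hb'b
  have hgv : ∀ v, g v = b v := fun _ => rfl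
  have hgx : ∀ v, g (x v) = x (g v) := fun v => (LinearMap.congr_fun (mem_cent.1 hbc) v).symm
  have hB : ∀ v w, Φ.B (g v) (g w) = Φ.B v w := by
    intro v w
    rw [hgv, hgv, hc]
    have h1 : c (b w) = w := by
      have := LinearMap.congr_fun (hcomm.symm.trans hbc1) w
      exact this
    rw [h1]
  have hq : ∀ v, Φ.q (g v) = Φ.q v := by
    obtain ⟨κ, hκ⟩ := hΦ.quad
    let Z : Submodule F V :=
      { carrier := {v | Φ.q (g v) - Φ.q v = 0}
        add_mem' := by
          intro v w hv hw
          rw [Set.mem_ofPred_eq] at hv hw ⊢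
          rw [map_add, hκ, hκ, hB]
          linear_combination hv + hw
        zero_mem' := by
          rw [Set.mem_ofPred_eq, map_zero, sub_self]
        smul_mem' := by
          intro a v hv
          rw [Set.mem_ofPred_eq] at hv ⊢
          rw [map_smul, hΦ.q_smul, hΦ.q_smul]
          linear_combination (a * a) * hv }
    have hZ : Inv x Z := by
      intro v hv
      have hv' : Φ.q (g v) - Φ.q v = 0 := hv
      show Φ.q (g (x v)) - Φ.q (x v) = 0
      rw [hgx, hx.2, hx.2, hv']
    rcases hi.min Z le_top hZ with h | h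
    · exfalso
      -- `v ↦ q (g v) - q v` is additive and injective
      have hinj : Function.Injective fun v => Φ.q (g v) - Φ.q v := by
        intro v w hvw
        have hvw' : Φ.q (g v) - Φ.q v = Φ.q (g w) - Φ.q w := hvw
        have h0 : ∀ y, (Φ.q (g y) - Φ.q y = 0) → y = 0 := by
          intro y hy
          have : y ∈ Z := hy
          rwa [h, Submodule.mem_bot] at this
        rw [← sub_eq_zero]
        apply h0
        have h3 : Φ.q (g (v - w)) - Φ.q (v - w) + (Φ.q (g w) - Φ.q w) = Φ.q (g v) - Φ.q v := by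
          have e1 := hκ (g (v - w)) (g w)
          have e2 := hκ (v - w) w
          rw [← map_add, sub_add_cancel] at e1
          rw [sub_add_cancel] at e2
          rw [e1, e2, hB]
          ring
        rw [← hvw'] at h3
        linear_combination h3
      have h4 : Nat.card V ≤ Nat.card F := Nat.card_le_card_of_injective _ hinj
      rw [Module.natCard_eq_pow_finrank (K := F)] at h4
      have h5 : 1 < Nat.card F := Finite.one_lt_card
      have h6 : Nat.card F ^ 1 < Nat.card F ^ finrank F V := Nat.pow_lt_pow_right h5 (by omega)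
      rw [pow_one] at h6
      omega
    · intro v
      have h1 : v ∈ Z := by rw [h]; trivial
      exact sub_eq_zero.1 h1
  refine ⟨g, ⟨hB, hq⟩, ?_, ?_, ?_, ?_⟩
  · ext v
    exact hgx v
  · ext v
    have h1 : ∀ n : ℕ, (g ^ n) v = (b ^ n) v := by
      intro n
      induction n with
      | zero => rfl
      | succ n ih =>
        rw [pow_succ', pow_succ', LinearEquiv.mul_apply, Module.End.mul_apply, ih]
        rfl
    rw [h1, hbr]
    rfl
  · intro h
    apply hb1
    ext v
    exact LinearEquiv.congr_fun h v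
  · refine ⟨fun v _ => trivial, hi.ne_bot, ?_⟩
    intro Y _ hY
    let K : Subring (cent x) :=
      { carrier := {y | ∀ v ∈ Y, (y : V →ₗ[F] V) v ∈ Y}
        mul_mem' := fun hy hz v hv => hy _ (hz _ hv)
        one_mem' := fun v hv => hv
        add_mem' := fun hy hz v hv => Y.add_mem (hy _ hv) (hz _ hv)
        zero_mem' := fun v _ => Y.zero_mem
        neg_mem' := fun hy v hv => Y.neg_mem (hy _ hv) }
    have hK : K = ⊤ := by
      refine subring_eq_top hp hcard hr hprim K (u := ⟨b, hbc⟩) hY ?_ ?_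
      · exact Subtype.ext hbr
      · intro h
        exact hb1 (congrArg Subtype.val h)
    apply hi.min Y le_top
    have h3 : (⟨x, self_mem_cent x⟩ : cent x) ∈ K := by rw [hK]; trivial
    exact h3

end torus

end Cfsg.Agent.H42.Bs
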